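import Groth.Agent.H23.PicMul
import Groth.Agent.S2122
import Groth.Prelude.Def_FGA

/-! Line bundle classes as units of the monoid of classes. -/

universe u

open CategoryTheory AlgebraicGeometry

namespace Groth.Agent.JacTheta

open scoped H23.PicMul

/-- Classes of line bundles. -/
abbrev LB (X : Scheme.{u}) : Type (u + 1) := (PicF.Cl X)ˣ

variable {X Y : Scheme.{u}}

/-- The class of an invertible module. -/
noncomputable def lb (L : X.Modules) (hL : PicF.IsInvertible L) : LB X :=
  (H23.PicMul.isUnit_cl hL).unit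

@[simp] theorem lb_val (L : X.Modules) (hL : PicF.IsInvertible L) : (lb L hL : PicF.Cl X) = PicF.cl L :=
  (H23.PicMul.isUnit_cl hL).unit_spec

theorem LB.isInvertible {c : LB X} {L : X.Modules} (h : (c : PicF.Cl X) = PicF.cl L) :
    PicF.IsInvertible L := by
  obtain ⟨N, hN⟩ := Quot.exists_rep ((c⁻¹ : LB X) : PicF.Cl X)
  have h1 : PicF.cl L * PicF.cl N = 1 := by
    rw [← h, show PicF.cl N = _ from hN, Units.mul_inv]
  exact S2122.result L N ((PicGrp.cl_eq_cl_iff _ _).1 h1).some

theorem LB.exists_rep (c : LB X) : ∃ L : X.Modules, PicF.IsInvertible L ∧ (c : PicF.Cl X) = PicF.cl L := by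
  obtain ⟨L, hL⟩ := Quot.exists_rep (c : PicF.Cl X)
  exact ⟨L, LB.isInvertible hL.symm, hL.symm⟩

theorem lb_eq_iff {L M : X.Modules} (hL : PicF.IsInvertible L) (hM : PicF.IsInvertible M) :
    lb L hL = lb M hM ↔ Nonempty (L ≅ M) := by
  rw [Units.ext_iff, lb_val, lb_val, PicGrp.cl_eq_cl_iff]

/-- Pullback of line bundle classes. -/
noncomputable def LB.pull (f : Y ⟶ X) : LB X →* LB Y := Units.map (H23.PicMul.pullHom f)

@[simp] theorem LB.pull_val (f : Y ⟶ X) (c : LB X) :
    (LB.pull f c : PicF.Cl Y) = PicF.pullCl f c := rfl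

theorem cl_tensorList (l : List X.Modules) :
    PicF.cl (FGA.tensorList l) = (l.map PicF.cl).prod := by
  induction l with
  | nil => rfl
  | cons M l ih => rw [List.map_cons, List.prod_cons, ← ih]; rfl

end Groth.Agent.JacTheta
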