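import Groth.Agent.JacTheta.Curve
import Groth.Agent.Lib.CurveTwist
import Groth.Agent.H23.InvStalk

/-! Sections of twists by rational points: when the dimension drops. -/

set_option linter.unusedSectionVars false
set_option linter.style.haveILetI false
set_option linter.overlappingInstances false

universe u

open CategoryTheory CategoryTheory.Limits AlgebraicGeometry TopologicalSpace
open Groth.Agent.PnCoh.Finite (mapLin)

set_option backward.isDefEq.respectTransparency false
set_option backward.isDefEq.respectTransparency.types false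

noncomputable section

attribute [local instance] Curv2.resAlgebra

namespace Groth.Agent.JacTheta

open scoped H23.PicMul
open Groth.Agent.CurveBundle Groth.Agent.CurveSlope Groth.Agent.CurveStable Groth.Agent.CurvePoint

variable {k : Type u} [Field k] {C : Scheme.{u}} [C.Over (Spec (CommRingCat.of k))]
  [IsIntegral C] [IsProper (C ↘ Spec (CommRingCat.of k))] [Smooth (C ↘ Spec (CommRingCat.of k))]

/-- The germ of a section lies in the maximal ideal times the stalk. -/
def GermIn (G : C.Modules) (p : C) (t : Coh.HH C G 0) : Prop :=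
  G.presheaf.germ ⊤ p trivial (Sheaf.H.equiv₀ (Coh.toAb G) isTerminalTop t : Γ(G, ⊤)) ∈
    IsLocalRing.maximalIdeal (C.presheaf.stalk p) •
      (⊤ : Submodule (C.presheaf.stalk p) (G.presheaf.stalk p))

theorem mapLin_eq_zero_of_germIn {G : C.Modules} (hG : FlatMod.IsFinLocFree G) {p : C}
    (hp : IsClosed ({p} : Set C)) {t : Coh.HH C G 0} (ht : GermIn G p t) :
    mapLin k ((KFlatLib.tensorUnitIso G).inv ≫ (DCoh.tensorBi.obj G).map (ClSub.toSubscheme (ptIdeal p hp))) 0 t =
      0 := by
  classical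
  haveI := CurveCohLib.isNoetherian_of_proper (k := k) (X := C)
  have hQc := CurveTensor.isCoh_tensor hG (isCoh_quot p hp k)
  have hsupp := (CurveTensor.support_tensor_subset (E := G)).trans (support_quot_subset p hp)
  obtain ⟨e, he⟩ := CurveCohLib.exists_h0Equiv (k := k) hQc
    (fun x hx => Set.mem_singleton_iff.1 (hsupp hx) ▸ hp) {p} (by simpa using hsupp)
  let π := (KFlatLib.tensorUnitIso G).inv ≫ (DCoh.tensorBi.obj G).map (ClSub.toSubscheme (ptIdeal p hp))
  let F := DerSch.stalkFunctor C p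
  refine e.injective ((funext fun x => ?_).trans (map_zero e).symm)
  obtain ⟨x, hx⟩ := x
  obtain rfl : p = x := (Finset.mem_singleton.1 hx).symm
  rw [he]
  have h2 : F.map π (G.presheaf.germ ⊤ p trivial
      (Sheaf.H.equiv₀ (Coh.toAb G) isTerminalTop t : Γ(G, ⊤))) = 0 := by
    refine Submodule.smul_induction_on (p := fun v => F.map π v = 0) ht (fun a ha m _ => ?_) fun a b ha hb => ?_
    · exact (map_smul (F.map π).hom a m).trans (smul_tensor_eq_zero p hp ha _)
    · exact (map_add (F.map π).hom a b).trans ((congrArg₂ (· + ·) ha hb).trans (add_zero _))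
  refine Eq.trans ?_ h2
  refine Eq.trans ?_ (TopCat.Presheaf.stalkFunctor_map_germ_apply ⊤ p trivial
    ((Scheme.Modules.toPresheaf C).map π) _).symm
  refine congrArg (((DCoh.tensorBi.obj G).obj (ClSub.quotMod (ptIdeal p hp))).presheaf.germ ⊤ p trivial) ?_
  exact (Sheaf.H.equiv₀_naturality isTerminalTop ((QCoh.toAbFunctor C).map π) t).symm

/-- Residues at a rational point are constants. -/
theorem exists_sub_mem (x : Pt k C) (a : C.presheaf.stalk x.pt) :
    ∃ c : k, a - Curv2.stalkMap k C x.pt c ∈ IsLocalRing.maximalIdeal (C.presheaf.stalk x.pt) := by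
  obtain ⟨c, hc⟩ := x.surjective_resMap (C.residue x.pt a)
  refine ⟨c, (IsLocalRing.residue_eq_zero_iff _).1 ?_⟩
  rw [map_sub, sub_eq_zero]
  exact hc.symm

/-- A section generating a stalk is surjective on it. -/
theorem gen_or_germIn {G : C.Modules} (hG : PicF.IsInvertible G) (p : C) (t : Coh.HH C G 0) :
    GermIn G p t ∨ ∀ v : G.presheaf.stalk p, ∃ a : C.presheaf.stalk p,
      v = a • G.presheaf.germ ⊤ p trivial (Sheaf.H.equiv₀ (Coh.toAb G) isTerminalTop t : Γ(G, ⊤)) := by
  obtain ⟨φ⟩ := H23.InvStalk.exists_stalk_equiv hG p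
  set g : G.presheaf.stalk p :=
    G.presheaf.germ ⊤ p trivial (Sheaf.H.equiv₀ (Coh.toAb G) isTerminalTop t : Γ(G, ⊤)) with hg
  by_cases hu : φ g ∈ IsLocalRing.maximalIdeal (C.presheaf.stalk p)
  · refine Or.inl ?_
    have h : g = (φ g) • φ.symm 1 := φ.injective (by rw [map_smul, φ.apply_symm_apply, smul_eq_mul, mul_one])
    unfold GermIn
    rw [← hg, h]
    exact Submodule.smul_mem_smul hu Submodule.mem_top
  · refine Or.inr fun v => ?_
    obtain ⟨u, hu'⟩ := (IsLocalRing.notMem_maximalIdeal.1 hu)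
    refine ⟨φ v * (↑u⁻¹ : C.presheaf.stalk p), φ.injective ?_⟩
    rw [map_smul, smul_eq_mul, mul_assoc, ← hu', Units.inv_mul, mul_one]

theorem not_germIn_of_surjective {G : C.Modules} (hG : PicF.IsInvertible G) (p : C) (t : Coh.HH C G 0)
    (h : Function.Surjective ((DerSch.stalkFunctor C p).map (CurveSpecial.homOfClass t))) :
    ¬ GermIn G p t := fun ht => by
  obtain ⟨φ⟩ := H23.InvStalk.exists_stalk_equiv hG p
  obtain ⟨y, hy⟩ := h (φ.symm 1)
  obtain ⟨a, ha⟩ := CurveSection.homOfTop_stalk_eq_smul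
    (Sheaf.H.equiv₀ (Coh.toAb G) isTerminalTop t : Γ(G, ⊤)) p y
  have h1 : φ.symm 1 ∈ IsLocalRing.maximalIdeal (C.presheaf.stalk p) •
      (⊤ : Submodule (C.presheaf.stalk p) ((DerSch.stalkFunctor C p).obj G)) := by
    rw [← hy, show (DerSch.stalkFunctor C p).map (CurveSpecial.homOfClass t) y = _ from ha]
    exact Submodule.smul_mem _ a ht
  have h2 : φ (φ.symm 1) ∈ IsLocalRing.maximalIdeal (C.presheaf.stalk p) := by
    refine Submodule.smul_induction_on (p := fun v => φ v ∈ IsLocalRing.maximalIdeal _) h1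
      (fun b hb m _ => ?_) fun b c hb hc => ?_
    · rw [map_smul, smul_eq_mul]
      exact Ideal.mul_mem_right _ _ hb
    · rw [map_add]
      exact add_mem hb hc
  rw [φ.apply_symm_apply] at h2
  exact (IsLocalRing.maximalIdeal.isMaximal _).ne_top ((Ideal.eq_top_iff_one _).2 h2)

variable (hdim : topologicalKrullDim C = 1)
include hdim

theorem euler_quot (x : Pt k C) :
    Curv2.euler k C (ClSub.quotMod (ptIdeal x.pt x.isClosed)) = 1 := by
  haveI := CurveCohLib.isNoetherian_of_proper (k := k) (X := C)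
  have h := euler_add' k _ _ _ (shortExact_pt x.pt x.isClosed) (isCoh_ptMod x.pt x.isClosed k)
    QCoh.isCoh_structureModule' (isCoh_quot x.pt x.isClosed k)
  have hd := CurveEmbed.deg_point k x.isClosed
  rw [x.finrank_residueField] at hd
  unfold Curv2.deg at hd
  push_cast at hd
  linarith

theorem twist_module (x : Pt k C) {G : C.Modules} (hG : PicF.IsInvertible G) :
    let n := Module.finrank k (Coh.HH C G 0)
    let m := Module.finrank k (Coh.HH C ((DCoh.tensorBi.obj G).obj (ptMod x.pt x.isClosed)) 0)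
    (m ≤ n ∧ n ≤ m + 1) ∧ ((∀ t, GermIn G x.pt t) → m = n) ∧
      ((∃ t, ¬ GermIn G x.pt t) → m + 1 = n) ∧
      ∀ t : Coh.HH C G 0, mapLin k ((KFlatLib.tensorUnitIso G).inv ≫
        (DCoh.tensorBi.obj G).map (ClSub.toSubscheme (ptIdeal x.pt x.isClosed))) 0 t = 0 → GermIn G x.pt t := by
  intro n m
  haveI := CurveCohLib.isNoetherian_of_proper (k := k) (X := C)
  have hG1 := InvEnd.isFinLocFreeOfRank_one hG
  have hGf := isFinLocFree_of_rank hG1
  let p := x.pt
  have hp := x.isClosed
  let Q := (DCoh.tensorBi.obj G).obj (ClSub.quotMod (ptIdeal p hp))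
  let g := (KFlatLib.tensorUnitIso G).inv ≫ (DCoh.tensorBi.obj G).map (ClSub.toSubscheme (ptIdeal p hp))
  have hS := CurvePoint.shortExact_of_iso_mid _ _ _
    (CurveTensor.shortExact_tensor hGf _ _ _ (shortExact_pt p hp)) (KFlatLib.tensorUnitIso G)
  have hQc := CurveTensor.isCoh_tensor hGf (isCoh_quot p hp k)
  have hsupp := (CurveTensor.support_tensor_subset (E := G)).trans (support_quot_subset p hp)
  have hQ : Module.finrank k (Coh.HH C Q 0) = 1 := by
    have h1 := CurveTensor.euler_tensor_torsion k hG1 (isCoh_quot p hp k) (closed_support p hp)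
    rw [euler_quot hdim x, CurveCohLib.euler_eq_finrank_zero hQc
      (fun y hy => Set.mem_singleton_iff.1 (hsupp hy) ▸ hp)] at h1
    push_cast at h1
    show Module.finrank k (Coh.HH C ((DCoh.tensorBi.obj G).obj (ClSub.quotMod (ptIdeal p hp))) 0) = 1
    exact_mod_cast (by linarith : ((Module.finrank k (Coh.HH C ((DCoh.tensorBi.obj G).obj (ClSub.quotMod (ptIdeal p hp))) 0) : ℤ)) = 1)
  haveI := S0002.result k C G (coh_of_free k hGf) 0
  haveI := S0002.result k C Q hQc 0
  have hsum := LinearMap.finrank_range_add_finrank_ker (mapLin k g 0)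
  rw [show LinearMap.ker (mapLin k g 0) = _ from CurveCohLib.ker_mapLin_g k hS 0,
    LinearMap.finrank_range_of_inj (CurveCohLib.mapLin_f_zero_injective k hS)] at hsum
  have hsum' : Module.finrank k (LinearMap.range (mapLin k g 0)) + m = n := hsum
  have hle : Module.finrank k (LinearMap.range (mapLin k g 0)) ≤ 1 :=
    (Submodule.finrank_le _).trans hQ.le
  suffices key : ∀ t, ¬ GermIn G p t → Function.Surjective (mapLin k g 0) by
    refine ⟨⟨by omega, by omega⟩, fun hall => ?_, fun ⟨t, ht⟩ => ?_, fun t h0 => ?_⟩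
    · have h0 : LinearMap.range (mapLin k g 0) = ⊥ := by
        rw [eq_bot_iff]
        rintro _ ⟨t, rfl⟩
        exact (Submodule.mem_bot k).2 (mapLin_eq_zero_of_germIn hGf hp (hall t))
      rw [h0, finrank_bot] at hsum'
      omega
    · rw [LinearMap.range_eq_top.2 (key t ht), finrank_top,
        show Module.finrank k (Coh.HH C Q 0) = 1 from hQ] at hsum'
      omega
    · by_contra ht
      haveI : Nontrivial (Coh.HH C Q 0) := Module.nontrivial_of_finrank_pos (R := k) (by rw [hQ]; exact one_pos)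
      obtain ⟨y, hy⟩ := exists_ne (0 : Coh.HH C Q 0)
      classical
      obtain ⟨e, he⟩ := CurveCohLib.exists_h0Equiv (k := k) hQc
        (fun y hy => Set.mem_singleton_iff.1 (hsupp hy) ▸ hp) {p} (by simpa using hsupp)
      let F := DerSch.stalkFunctor C p
      haveI : Epi (F.map g) := by
        haveI : Epi g := hS.epi_g
        infer_instance
      obtain ⟨(v : G.presheaf.stalk p), hv⟩ := (ModuleCat.epi_iff_surjective (F.map g)).1 inferInstance
        (show F.obj Q from e y ⟨p, Finset.mem_singleton_self p⟩)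
      obtain ⟨a, rfl⟩ := ((gen_or_germIn hG p t).resolve_left ht) v
      have hz : F.map g (G.presheaf.germ ⊤ p trivial
          (Sheaf.H.equiv₀ (Coh.toAb G) isTerminalTop t : Γ(G, ⊤))) = 0 := by
        have := he (mapLin k g 0 t) ⟨p, Finset.mem_singleton_self p⟩
        rw [show mapLin k g 0 t = 0 from h0, map_zero] at this
        refine Eq.trans (TopCat.Presheaf.stalkFunctor_map_germ_apply ⊤ p trivial
          ((Scheme.Modules.toPresheaf C).map g) _) ?_
        refine Eq.trans (congrArg (Q.presheaf.germ ⊤ p trivial) ?_) this.symm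
        rw [show (0 : Coh.HH C Q 0) = mapLin k g 0 t from h0.symm]
        exact Sheaf.H.equiv₀_naturality isTerminalTop ((QCoh.toAbFunctor C).map g) t
      refine hy (e.injective (funext fun z => ?_))
      obtain ⟨z, hzmem⟩ := z
      obtain rfl : p = z := (Finset.mem_singleton.1 hzmem).symm
      rw [map_zero]
      refine hv.symm.trans ?_
      exact (map_smul (F.map g).hom a _).trans (by rw [hz]; exact smul_zero a)
  intro t ht
  classical
  obtain ⟨e, he⟩ := CurveCohLib.exists_h0Equiv (k := k) hQc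
    (fun y hy => Set.mem_singleton_iff.1 (hsupp hy) ▸ hp) {p} (by simpa using hsupp)
  have hsurj : Function.Surjective (mapLin k g 0) := fun y => by
      let F := DerSch.stalkFunctor C p
      haveI : Epi (F.map g) := by
        haveI : Epi g := hS.epi_g
        infer_instance
      obtain ⟨(v : G.presheaf.stalk p), hv⟩ := (ModuleCat.epi_iff_surjective (F.map g)).1 inferInstance
        (show F.obj Q from e y ⟨p, Finset.mem_singleton_self p⟩)
      obtain ⟨a, rfl⟩ := ((gen_or_germIn hG p t).resolve_left ht) v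
      obtain ⟨c, hc⟩ := exists_sub_mem x a
      refine ⟨c • t, e.injective (funext fun z => ?_)⟩
      obtain ⟨z, hz⟩ := z
      obtain rfl : p = z := (Finset.mem_singleton.1 hz).symm
      rw [he]
      refine Eq.trans ?_ hv
      have h2 : F.map g (a • G.presheaf.germ ⊤ p trivial
          (Sheaf.H.equiv₀ (Coh.toAb G) isTerminalTop t : Γ(G, ⊤)) - G.presheaf.germ ⊤ p trivial
          (Sheaf.H.equiv₀ (Coh.toAb G) isTerminalTop (c • t) : Γ(G, ⊤))) = 0 := by
        rw [CurveCohLib.germ_h0Equiv_smul, ← sub_smul]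
        exact (map_smul (F.map g).hom _ _).trans (smul_tensor_eq_zero p hp hc _)
      rw [map_sub, sub_eq_zero] at h2
      refine Eq.trans ?_ h2.symm
      refine Eq.trans ?_ (TopCat.Presheaf.stalkFunctor_map_germ_apply ⊤ p trivial
        ((Scheme.Modules.toPresheaf C).map g) _).symm
      refine congrArg (Q.presheaf.germ ⊤ p trivial) ?_
      exact (Sheaf.H.equiv₀_naturality isTerminalTop ((QCoh.toAbFunctor C).map g) (c • t)).symm
  exact hsurj

theorem hh_twist_bounds (x : Pt k C) (d : LB C) :
    hh k 0 ((d * (O hdim x)⁻¹ : LB C) : PicF.Cl C) ≤ hh k 0 (d : PicF.Cl C) ∧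
      hh k 0 (d : PicF.Cl C) ≤ hh k 0 ((d * (O hdim x)⁻¹ : LB C) : PicF.Cl C) + 1 := by
  obtain ⟨G, hG, hd⟩ := d.exists_rep
  rw [Units.val_mul, O_inv_val, hd, ← H23.PicMul.cl_tensor, hh_cl, hh_cl, x.ker_eq]
  exact (twist_module hdim x hG).1

theorem hh_le_mul_O (x : Pt k C) (d : LB C) :
    hh k 0 (d : PicF.Cl C) ≤ hh k 0 ((d * O hdim x : LB C) : PicF.Cl C) := by
  have h := (hh_twist_bounds hdim x (d * O hdim x)).1
  rwa [mul_inv_cancel_right] at h

theorem hh_prod_O_le (l : List (Pt k C)) (d : LB C) :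
    hh k 0 (d : PicF.Cl C) ≤ hh k 0 ((d * (l.map (O hdim)).prod : LB C) : PicF.Cl C) := by
  induction l generalizing d with
  | nil => rw [List.map_nil, List.prod_nil, mul_one]
  | cons a l ih =>
    rw [List.map_cons, List.prod_cons, ← mul_assoc]
    exact (hh_le_mul_O hdim a d).trans (ih _)

/-- Twisting down by a rational point outside a finite set of closed points drops the sections by one; inside, not. -/
theorem exists_base_locus (d : LB C) (hd : 0 < hh k 0 (d : PicF.Cl C)) :
    ∃ B : Set C, B.Finite ∧ IsClosed B ∧ Bᶜ.Nonempty ∧ ∀ x : Pt k C,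
      (x.pt ∉ B → hh k 0 ((d * (O hdim x)⁻¹ : LB C) : PicF.Cl C) + 1 = hh k 0 (d : PicF.Cl C)) ∧
      (x.pt ∈ B → hh k 0 ((d * (O hdim x)⁻¹ : LB C) : PicF.Cl C) = hh k 0 (d : PicF.Cl C)) := by
  obtain ⟨G, hG, hdG⟩ := d.exists_rep
  rw [hdG, hh_cl] at hd
  let B : Set C := {p | IsClosed ({p} : Set C) ∧ ∀ t : Coh.HH C G 0, GermIn G p t}
  haveI : Nontrivial (Coh.HH C G 0) := Module.nontrivial_of_finrank_pos hd
  obtain ⟨t, ht⟩ := exists_ne (0 : Coh.HH C G 0)
  obtain ⟨Z, hZ, hsur⟩ := CurveTwist.exists_finite_surjective k hdim (InvEnd.isFinLocFreeOfRank_one hG) _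
    (CurveSpecial.homOfClass_ne_zero ht)
  have hfin : B.Finite := hZ.subset fun p hp => by
    by_contra hpZ
    exact not_germIn_of_surjective hG p t (hsur p hpZ) (hp.2 t)
  have hcl : IsClosed B := by
    rw [← Set.biUnion_of_singleton B]
    exact hfin.isClosed_biUnion fun p hp => hp.1
  refine ⟨B, hfin, hcl, ⟨genericPoint C, fun h => CurveEmbed.genericPoint_not_closed hdim h.1⟩, fun x => ⟨fun hx => ?_, fun hx => ?_⟩⟩
  all_goals rw [Units.val_mul, O_inv_val, hdG, ← H23.PicMul.cl_tensor, hh_cl, hh_cl, x.ker_eq]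
  · refine (twist_module hdim x hG).2.2.1 ?_
    by_contra h
    push Not at h
    exact hx ⟨x.isClosed, h⟩
  · exact (twist_module hdim x hG).2.1 hx.2

end Groth.Agent.JacTheta
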