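import Groth.Agent.JacTheta.Jacobian
import Groth.Agent.JacTheta.Twist
import Groth.Agent.Lib.AVAmple

/-! The Abel map on rational points: `x ↦ [O(x - σ)]`. -/

set_option autoImplicit false
set_option linter.unusedSectionVars false
set_option linter.style.haveILetI false
set_option linter.overlappingInstances false
set_option backward.isDefEq.respectTransparency false
set_option backward.isDefEq.respectTransparency.types false

universe u

open CategoryTheory CategoryTheory.Limits AlgebraicGeometry MonoidalCategory CartesianMonoidalCategory MonObj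
open TopologicalSpace

noncomputable section

namespace Groth.Agent.JacTheta

open scoped H23.PicMul
open Groth.Agent.H23.TrivBasic Groth.Agent.InvX

variable {k : Type u} [Field k] {C : Scheme.{u}} [C.Over (Spec (CommRingCat.of k))]

/-- `c ↦ (c, x)`. -/
def slice (x : Pt k C) :
    C ⟶ pullback (C ↘ Spec (CommRingCat.of k)) (C ↘ Spec (CommRingCat.of k)) :=
  pullback.lift (𝟙 C) ((C ↘ Spec (CommRingCat.of k)) ≫ x.1) (by
    rw [Category.id_comp]
    rw [Category.assoc, x.2, Category.comp_id])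

theorem slice_fst (x : Pt k C) :
    slice x ≫ pullback.fst (C ↘ Spec (CommRingCat.of k)) (C ↘ Spec (CommRingCat.of k)) = 𝟙 C :=
  pullback.lift_fst _ _ _

theorem slice_snd (x : Pt k C) :
    slice x ≫ pullback.snd (C ↘ Spec (CommRingCat.of k)) (C ↘ Spec (CommRingCat.of k)) =
      (C ↘ Spec (CommRingCat.of k)) ≫ x.1 :=
  pullback.lift_snd _ _ _

/-- A rational point as a morphism from the one-point test scheme. -/
abbrev ptOver (x : Pt k C) : Rp k ⟶ Over.mk (C ↘ Spec (CommRingCat.of k)) := Over.homMk x.1 x.2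

theorem slice_mem_range_diagonal_iff (x : Pt k C) (c : C) :
    slice x c ∈ Set.range (pullback.diagonal (C ↘ Spec (CommRingCat.of k))) ↔ c = x.pt := by
  constructor
  · rintro ⟨c', hc'⟩
    have a1 : pullback.fst (C ↘ Spec (CommRingCat.of k)) (C ↘ Spec (CommRingCat.of k))
        (pullback.diagonal (C ↘ Spec (CommRingCat.of k)) c') = c' := by
      show (pullback.diagonal (C ↘ Spec (CommRingCat.of k)) ≫ pullback.fst _ _) c' = c'
      rw [pullback.diagonal_fst]; rfl
    have a2 : pullback.fst (C ↘ Spec (CommRingCat.of k)) (C ↘ Spec (CommRingCat.of k)) (slice x c) = c := by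
      show (slice x ≫ pullback.fst _ _) c = c
      rw [slice_fst]; rfl
    have b1 : pullback.snd (C ↘ Spec (CommRingCat.of k)) (C ↘ Spec (CommRingCat.of k))
        (pullback.diagonal (C ↘ Spec (CommRingCat.of k)) c') = c' := by
      show (pullback.diagonal (C ↘ Spec (CommRingCat.of k)) ≫ pullback.snd _ _) c' = c'
      rw [pullback.diagonal_snd]; rfl
    have b2 : pullback.snd (C ↘ Spec (CommRingCat.of k)) (C ↘ Spec (CommRingCat.of k)) (slice x c) = x.pt := by
      show (slice x ≫ pullback.snd _ _) c = x.pt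
      rw [slice_snd]
      exact congrArg x.1 (Subsingleton.elim (α := PrimeSpectrum k) _ _)
    rw [hc'] at a1 b1
    exact a2.symm.trans (a1.trans (b1.symm.trans b2))
  · rintro rfl
    refine ⟨x.pt, ?_⟩
    have e : x.1 ≫ pullback.diagonal (C ↘ Spec (CommRingCat.of k)) = x.1 ≫ slice x := by
      apply pullback.hom_ext
      · rw [Category.assoc, Category.assoc, pullback.diagonal_fst, slice_fst]
      · rw [Category.assoc, Category.assoc, pullback.diagonal_snd, slice_snd, ← Category.assoc, x.2,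
          Category.id_comp, Category.comp_id]
    exact congrArg (fun f => f (IsLocalRing.closedPoint k)) e

/-- Pulling back along a point factors through the slice. -/
theorem XTmap_eq_slice (x : Pt k C) {T : Over (Spec (CommRingCat.of k))}
    (g : T ⟶ Over.mk (C ↘ Spec (CommRingCat.of k))) (hg : g.left = T.hom ≫ x.1) :
    PicF.XTmap (C ↘ Spec (CommRingCat.of k)) g = pullback.fst (C ↘ Spec (CommRingCat.of k)) T.hom ≫ slice x := by
  apply pullback.hom_ext
  · refine (pullback.lift_fst _ _ _).trans ?_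
    refine Eq.trans ?_ (Category.assoc _ _ _).symm
    exact congrArg (pullback.fst (C ↘ Spec (CommRingCat.of k)) T.hom ≫ ·) (slice_fst x).symm
  · refine (pullback.lift_snd _ _ _).trans ?_
    refine Eq.trans ?_ (Category.assoc _ _ _).symm
    refine Eq.trans ?_ (congrArg (pullback.fst (C ↘ Spec (CommRingCat.of k)) T.hom ≫ ·) (slice_snd x)).symm
    rw [hg, ← Category.assoc, ← Category.assoc, ← pullback.condition]

/-- The class of a family restricted to a point. -/
theorem cl_pull_pt (x : Pt k C) {T : Over (Spec (CommRingCat.of k))}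
    (g : T ⟶ Over.mk (C ↘ Spec (CommRingCat.of k))) (hg : g.left = T.hom ≫ x.1)
    (L : (PicF.XT (C ↘ Spec (CommRingCat.of k)) (Over.mk (C ↘ Spec (CommRingCat.of k)))).Modules) :
    PicF.cl ((Scheme.Modules.pullback (PicF.XTmap (C ↘ Spec (CommRingCat.of k)) g)).obj L) =
      PicF.pullCl (pullback.fst (C ↘ Spec (CommRingCat.of k)) T.hom) (PicF.pullCl (slice x) (PicF.cl L)) := by
  rw [PicClLib.pullCl_comp, ← XTmap_eq_slice x g hg]
  rfl

variable [IsIntegral C] [IsProper (C ↘ Spec (CommRingCat.of k))] [Smooth (C ↘ Spec (CommRingCat.of k))]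
  (hdim : topologicalKrullDim C = 1)

include hdim

theorem eq_one_of_dgr_zero (c : LB C) (hd : dgr k (c : PicF.Cl C) = 0) (h0 : 0 < hh k 0 (c : PicF.Cl C)) :
    c = 1 := by
  obtain ⟨L, hL, hc⟩ := c.exists_rep
  rw [hc, dgr_cl] at hd
  rw [hc, hh_cl] at h0
  obtain ⟨s, hs⟩ := CurveRR.exists_hom_ne_zero k (P := L) h0.ne'
  haveI := (CurveDeg.deg_le_and_isIso k hdim.le CurveDeg.isInvertible_structureModule hL s hs).2
    (by rw [CurveDeg.deg_structureModule, hd])
  exact Units.ext (hc.trans ((PicGrp.cl_eq_cl_iff _ _).2 ⟨(asIso s).symm⟩))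

/-- A class with a section vanishing at `x` keeps a section after twisting down by `x`. -/
theorem hh_pos_of_vanish (c : LB C) {G : C.Modules} (hc : (c : PicF.Cl C) = PicF.cl G) (s : Γ(G, ⊤))
    (hs : s ≠ 0) (x : Pt k C) (hx : x.pt ∉ locus s) :
    0 < hh k 0 ((c * (O hdim x)⁻¹ : LB C) : PicF.Cl C) := by
  haveI := CurveCohLib.isNoetherian_of_proper (k := k) (X := C)
  have hG := LB.isInvertible hc
  let t : Coh.HH C G 0 := (Sheaf.H.equiv₀ (Coh.toAb G) isTerminalTop).symm s
  have hts : (Sheaf.H.equiv₀ (Coh.toAb G) isTerminalTop t : Γ(G, ⊤)) = s :=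
    (Sheaf.H.equiv₀ (Coh.toAb G) isTerminalTop).apply_symm_apply s
  have ht0 : t ≠ 0 := fun h => hs (by rw [← hts, h, map_zero])
  obtain ⟨U, hxU, e, he⟩ := InvX.exists_frame hG x.pt
  obtain ⟨g, hg⟩ := he.exists_coord le_rfl (AModX.res G (le_top : U ≤ ⊤) s)
  rw [AModX.res_self] at hg
  have hgx : C.presheaf.germ U x.pt hxU g ∈ IsLocalRing.maximalIdeal (C.presheaf.stalk x.pt) := by
    intro hu
    refine hx ?_
    have h1 : x.pt ∈ locus s ⊓ U := by
      rw [locus_eq_basicOpen he hg]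
      exact (C.mem_basicOpen g x.pt hxU).2 hu
    exact h1.1
  have htin : GermIn G x.pt t := by
    unfold GermIn
    rw [hts, show G.presheaf.germ ⊤ x.pt trivial s = G.presheaf.germ U x.pt hxU (g • e) by
      rw [← hg]; exact (G.presheaf.germ_res_apply (homOfLE le_top) x.pt hxU s).symm,
      show G.presheaf.germ U x.pt hxU (g • e) = _ from QCoh.germ_smul' G hxU g e]
    exact Submodule.smul_mem_smul hgx Submodule.mem_top
  obtain ⟨⟨hmn, hnm⟩, hall, hex, -⟩ := twist_module hdim x hG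
  haveI := S0002.result k C G (CurveStable.coh_of_free k
    (CurveStable.isFinLocFree_of_rank (InvEnd.isFinLocFreeOfRank_one hG))) 0
  have hn : 0 < Module.finrank k (Coh.HH C G 0) := Module.finrank_pos_iff_exists_ne_zero.2 ⟨t, ht0⟩
  have hm : 0 < Module.finrank k (Coh.HH C ((DCoh.tensorBi.obj G).obj (CurvePoint.ptMod x.pt x.isClosed)) 0) := by
    by_cases h : ∀ t', GermIn G x.pt t'
    · rw [hall h]; exact hn
    · push Not at h
      obtain ⟨t', ht'⟩ := h
      have h2 : Module.finrank k (Coh.HH C ((DCoh.tensorBi.obj G).obj (CurvePoint.ptMod x.pt x.isClosed)) 0) + 1 =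
          Module.finrank k (Coh.HH C G 0) := hex ⟨t', ht'⟩
      by_contra hm0
      have h3 : Module.finrank k (Coh.HH C G 0) = 1 := by
        rw [← h2]
        simpa using Nat.eq_zero_of_not_pos hm0
      obtain ⟨a, ha⟩ := (finrank_eq_one_iff_of_nonzero' t ht0).1 h3 t'
      refine ht' ?_
      unfold GermIn
      rw [← ha, CurveCohLib.germ_h0Equiv_smul]
      exact Submodule.smul_mem _ _ htin
  rw [Units.val_mul, O_inv_val, hc, ← H23.PicMul.cl_tensor, hh_cl, x.ker_eq]
  exact hm

/-- A degree one class with a section vanishing at `x` is `O(x)`. -/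
theorem eq_O_of_section (c : LB C) (hd : dgr k (c : PicF.Cl C) = 1) {G : C.Modules}
    (hc : (c : PicF.Cl C) = PicF.cl G) (s : Γ(G, ⊤)) (hs : s ≠ 0) (x : Pt k C) (hx : x.pt ∉ locus s) :
    c = O hdim x := by
  have h0 := hh_pos_of_vanish hdim c hc s hs x hx
  exact mul_inv_eq_one.1 (eq_one_of_dgr_zero hdim _ (by rw [dgr_mul hdim, dgr_inv hdim, hd, dgr_O hdim]; norm_num) h0)

variable {J : Over (Spec (CommRingCat.of k))} [GrpObj J]
  {ψ : (ModFun.PicDeg (C ↘ Spec (CommRingCat.of k)) 0).Hom ⊤ J}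
  {σ : Spec (CommRingCat.of k) ⟶ C}
  {j : Over.mk (C ↘ Spec (CommRingCat.of k)) ⟶ J}

set_option maxHeartbeats 800000 in
/-- The Abel map on a rational point. -/
theorem abel_pt [IsAlgClosed k] (hσ : σ ≫ (C ↘ Spec (CommRingCat.of k)) = 𝟙 _)
    (hj : Jac.IsAbelJacobiAt (C ↘ Spec (CommRingCat.of k)) σ ψ j) (x : Pt k C) :
    ptOver x ≫ j = ptJ ψ (O hdim x * (O hdim ⟨σ, hσ⟩)⁻¹) := by
  obtain ⟨hP, L₀, hL, ⟨hLi, hLe⟩, rfl⟩ := hj
  let L : (pullback (C ↘ Spec (CommRingCat.of k)) (C ↘ Spec (CommRingCat.of k))).Modules := L₀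
  let Δ := pullback.diagonal (C ↘ Spec (CommRingCat.of k))
  let p1 := pullback.fst (C ↘ Spec (CommRingCat.of k)) (C ↘ Spec (CommRingCat.of k))
  have hσi : PicF.IsInvertible (ClSub.idealMod σ.ker) := Pt.isInvertible hdim ⟨σ, hσ⟩
  have hLe' : PicF.cl L * PicF.cl (ClSub.idealMod Δ.ker) =
      PicF.pullCl p1 (PicF.cl (ClSub.idealMod σ.ker)) := by
    rw [← H23.PicMul.cl_tensor]
    exact (PicGrp.cl_eq_cl_iff _ _).2 hLe
  have hu : IsUnit (PicF.cl (ClSub.idealMod Δ.ker)) := by
    refine isUnit_of_mul_isUnit_right (x := PicF.cl L) ?_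
    rw [hLe']
    exact (H23.PicMul.isUnit_cl hσi).map (H23.PicMul.pullHom p1)
  let D : LB (pullback (C ↘ Spec (CommRingCat.of k)) (C ↘ Spec (CommRingCat.of k))) := hu.unit
  have hD : (D : PicF.Cl _) = PicF.cl (ClSub.idealMod Δ.ker) := hu.unit_spec
  have hIi : PicF.IsInvertible (ClSub.idealMod Δ.ker) := LB.isInvertible hD
  obtain ⟨Λ, hΛi, hΛ⟩ := D⁻¹.exists_rep
  have hinv : ClSub.IsInverseOf Λ (ClSub.idealMod Δ.ker) := (PicGrp.cl_eq_cl_iff _ _).1 (by
    rw [H23.PicMul.cl_tensor, ← hΛ, ← hD, Units.inv_mul]; rfl)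
  obtain ⟨s, hs⟩ := AVAmple.exists_divisor_section Δ.ker ((S8914.result _).1 hIi) hΛi hinv
  let c : LB C := LB.pull (slice x) (lb L hLi)
  let e : LB C := LB.pull (slice x) D⁻¹
  have hce : c = e * (O hdim ⟨σ, hσ⟩)⁻¹ := by
    have h1 : lb L hLi * D = LB.pull p1 ((O hdim ⟨σ, hσ⟩)⁻¹) := Units.ext (by
      rw [Units.val_mul, lb_val, hD, LB.pull_val, O_inv_val, hLe'])
    have h2 : lb L hLi = D⁻¹ * LB.pull p1 ((O hdim ⟨σ, hσ⟩)⁻¹) := by
      rw [← h1, mul_comm D⁻¹, _root_.mul_assoc, mul_inv_cancel, _root_.mul_one]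
    show LB.pull _ _ = _
    rw [h2, map_mul]
    congr 1
    refine Units.ext ?_
    rw [LB.pull_val, LB.pull_val, PicClLib.pullCl_comp, slice_fst, PicClLib.pullCl_id]
  have hcd : dgr k (c : PicF.Cl C) = 0 := by
    obtain ⟨M, hM, hcM⟩ := c.exists_rep
    have h := hL.2 k x.1
    rw [hcM, dgr_cl]
    refine Eq.trans ?_ h
    symm
    have hM' : PicF.pullCl (slice x) (PicF.cl L₀) = PicF.cl M := hcM
    refine deg_pullback_fst _ M hM _ ?_
    rw [← hM']
    exact cl_pull_pt x _ (by
      show x.1 = (x.1 ≫ (C ↘ Spec (CommRingCat.of k))) ≫ x.1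
      rw [x.2, Category.id_comp]) L₀
  have hed : dgr k (e : PicF.Cl C) = 1 := by
    have h := hcd
    rw [hce, dgr_mul hdim, dgr_inv hdim, dgr_O hdim] at h
    omega
  have hec : (e : PicF.Cl C) = PicF.cl ((Scheme.Modules.pullback (slice x)).obj Λ) := by
    show (LB.pull (slice x) D⁻¹ : PicF.Cl C) = _
    rw [LB.pull_val, hΛ]; rfl
  let s' : Γ((Scheme.Modules.pullback (slice x)).obj Λ, ⊤) := pullElt (slice x) s
  have hmem : ∀ q : C, q ∈ locus s' ↔ q ≠ x.pt := fun q => by
    rw [show locus s' = slice x ⁻¹ᵁ locus s from locus_pullElt hΛi (slice x) s]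
    show slice x q ∈ locus s ↔ _
    rw [hs]
    refine Iff.trans ?_ (slice_mem_range_diagonal_iff x q).not
    refine not_congr ?_
    rw [← SetLike.mem_coe, Scheme.Hom.support_ker,
      (Scheme.Hom.isClosedEmbedding Δ).isClosed_range.closure_eq]
  have hs0 : s' ≠ 0 := fun h0 => by
    have hη : genericPoint C ≠ x.pt := fun h => CurveEmbed.genericPoint_not_closed hdim (h ▸ x.isClosed)
    obtain ⟨W, hW, hf⟩ := mem_locus_iff.1 ((hmem _).2 hη)
    rw [h0, map_zero] at hf
    have h01 := hf.coord_unique le_rfl (r := (0 : Γ(C, W))) (r' := 1) (by simp)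
    haveI : Nonempty W := ⟨⟨_, hW⟩⟩
    exact zero_ne_one h01
  have he : e = O hdim x := eq_O_of_section hdim e hed hec s' hs0 x fun h => (hmem x.pt).1 h rfl
  rw [← he, ← hce]
  have hcl : PicF.cl ((ModFun.PicDeg (C ↘ Spec (CommRingCat.of k)) 0).pull (ptOver x) L₀) =
      (LB.pull (prFst k C) c : PicF.Cl _) :=
    cl_pull_pt x (ptOver x) (Category.id_comp x.1).symm L₀
  have hok := ok_of_cl c hcd hcl
  rw [← app_eq_ptJ ψ c hcd hcl trivial hok]
  exact (ψ.natural (ptOver x) L₀ hP trivial hL hok).symm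

end Groth.Agent.JacTheta
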