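import Groth.Agent.JacTheta.Curve
import Groth.Prelude.Def_SymProd

/-! Values of functions at rational points, and points of fibre powers. -/

set_option linter.unusedSectionVars false
set_option linter.style.haveILetI false
set_option backward.isDefEq.respectTransparency false
set_option backward.isDefEq.respectTransparency.types false

universe u

open CategoryTheory CategoryTheory.Limits AlgebraicGeometry TopologicalSpace Opposite

noncomputable section

namespace Groth.Agent.JacTheta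

variable {k : Type u} [Field k] {Y : Scheme.{u}} [Y.Over (Spec (CommRingCat.of k))]

theorem Pt.le_preimage (y : Pt k Y) {V : Y.Opens} (h : y.pt ∈ V) :
    (⊤ : (Spec (CommRingCat.of k)).Opens) ≤ y.1 ⁻¹ᵁ V := fun p _ => by
  haveI : Subsingleton (Spec (CommRingCat.of k)) := inferInstanceAs (Subsingleton (PrimeSpectrum k))
  rw [Subsingleton.elim p (IsLocalRing.closedPoint k)]
  exact h

/-- The value of a function at a rational point. -/
def ev (y : Pt k Y) {V : Y.Opens} (h : y.pt ∈ V) : Γ(Y, V) →+* k :=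
  (Scheme.ΓSpecIso (CommRingCat.of k)).hom.hom.comp (y.1.appLE V ⊤ (y.le_preimage h)).hom

theorem ev_res (y : Pt k Y) {V W : Y.Opens} (i : W ≤ V) (h : y.pt ∈ W) (f : Γ(Y, V)) :
    ev y h (Y.presheaf.map (homOfLE i).op f) = ev y (i h) f := by
  change (Scheme.ΓSpecIso _).hom.hom ((y.1.appLE W ⊤ _).hom _) =
    (Scheme.ΓSpecIso _).hom.hom ((y.1.appLE V ⊤ _).hom f)
  congr 1
  exact congr($(Scheme.Hom.map_appLE y.1 (y.le_preimage h) (homOfLE i).op).hom f)

theorem ev_const (y : Pt k Y) {V : Y.Opens} (h : y.pt ∈ V) (a : k) :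
    ev y h (Y.presheaf.map (homOfLE (le_top : V ≤ ⊤)).op (Coh.toGlobal (Y ↘ Spec (CommRingCat.of k)) a)) = a := by
  rw [ev_res]
  have h2 : (Y ↘ Spec (CommRingCat.of k)).appTop ≫ y.1.appTop = 𝟙 _ := by
    rw [← Scheme.Hom.comp_appTop, y.2]
    rfl
  have h3 : (y.1.appLE ⊤ ⊤ (y.le_preimage (V := ⊤) trivial)) = y.1.appTop := Scheme.Hom.appLE_eq_app _
  change (Scheme.ΓSpecIso _).hom.hom ((y.1.appLE ⊤ ⊤ _).hom
    ((Y ↘ Spec (CommRingCat.of k)).appTop.hom ((Scheme.ΓSpecIso (CommRingCat.of k)).inv.hom a))) = a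
  rw [h3]
  have h4 := congr($h2 ((Scheme.ΓSpecIso (CommRingCat.of k)).inv.hom a))
  simp only [CommRingCat.comp_apply, CommRingCat.id_apply] at h4
  erw [h4]
  exact congr($((Scheme.ΓSpecIso (CommRingCat.of k)).inv_hom_id).hom a)

/-- A function is invertible near a rational point exactly when its value there is non-zero. -/
theorem mem_basicOpen_iff (y : Pt k Y) {V : Y.Opens} (h : y.pt ∈ V) (f : Γ(Y, V)) :
    y.pt ∈ Y.basicOpen f ↔ ev y h f ≠ 0 := by
  have hpre := Scheme.preimage_basicOpen y.1 f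
  have h1 : y.pt ∈ Y.basicOpen f ↔ IsLocalRing.closedPoint k ∈
      (Spec (CommRingCat.of k)).basicOpen ((y.1.appLE V ⊤ (y.le_preimage h)).hom f) := by
    rw [Scheme.Hom.appLE, CommRingCat.comp_apply]
    erw [Scheme.basicOpen_res]
    rw [← hpre]
    exact ⟨fun hp => ⟨trivial, hp⟩, fun hp => hp.2⟩
  have h5 : ((y.1.appLE V ⊤ (y.le_preimage h)).hom f) =
      (Scheme.ΓSpecIso (CommRingCat.of k)).inv (ev y h f) :=
    (congr($((Scheme.ΓSpecIso (CommRingCat.of k)).hom_inv_id).hom ((y.1.appLE V ⊤ (y.le_preimage h)).hom f))).symm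
  rw [h1, h5]
  generalize ev y h f = c
  rw [basicOpen_eq_of_affine]
  refine (PrimeSpectrum.mem_basicOpen _ _).trans ?_
  show c ∉ IsLocalRing.maximalIdeal k ↔ _
  rw [(IsLocalRing.isField_iff_maximalIdeal_eq.1 (Field.toIsField k)), Ideal.mem_bot]

theorem germ_mem_maximalIdeal_iff (y : Pt k Y) {V : Y.Opens} (h : y.pt ∈ V) (f : Γ(Y, V)) :
    Y.presheaf.germ V y.pt h f ∈ IsLocalRing.maximalIdeal (Y.presheaf.stalk y.pt) ↔ ev y h f = 0 := by
  rw [← not_iff_not, IsLocalRing.notMem_maximalIdeal, ← Scheme.mem_basicOpen Y f y.pt h, mem_basicOpen_iff]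

variable {Z : Scheme.{u}} [Z.Over (Spec (CommRingCat.of k))]

/-- The image of a rational point. -/
def Pt.map (g : Y ⟶ Z) (hg : g ≫ (Z ↘ Spec (CommRingCat.of k)) = Y ↘ Spec (CommRingCat.of k))
    (y : Pt k Y) : Pt k Z :=
  ⟨y.1 ≫ g, by rw [Category.assoc, hg, y.2]⟩

theorem ev_map (g : Y ⟶ Z) (hg : g ≫ (Z ↘ Spec (CommRingCat.of k)) = Y ↘ Spec (CommRingCat.of k))
    (y : Pt k Y) {V : Z.Opens} {W : Y.Opens} (e : W ≤ g ⁻¹ᵁ V) (h : y.pt ∈ W) (f : Γ(Z, V)) :
    ev y h ((g.appLE V W e).hom f) = ev (y.map g hg) (V := V) (e h) f := by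
  change (Scheme.ΓSpecIso _).hom.hom _ = (Scheme.ΓSpecIso _).hom.hom _
  congr 1
  exact congr($(Scheme.Hom.appLE_comp_appLE y.1 g V W ⊤ e (y.le_preimage h)).hom f)

end Groth.Agent.JacTheta
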