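import Groth.Agent.JacTheta.Twist
import Groth.Agent.JacTheta.Eval

/-! Coordinates of sections in a frame, and their values at rational points. -/

set_option linter.unusedSectionVars false
set_option linter.style.haveILetI false
set_option backward.isDefEq.respectTransparency false
set_option backward.isDefEq.respectTransparency.types false

universe u

open CategoryTheory CategoryTheory.Limits AlgebraicGeometry TopologicalSpace Opposite
open Groth.Agent.AModX

noncomputable section

namespace Groth.Agent.JacTheta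

variable {k : Type u} [Field k] {C : Scheme.{u}} [C.Over (Spec (CommRingCat.of k))]
  [IsIntegral C] [IsProper (C ↘ Spec (CommRingCat.of k))] [Smooth (C ↘ Spec (CommRingCat.of k))]

variable (G : C.Modules) {V : C.Opens} {e : Γ(G, V)} (he : InvX.IsFrame e)

/-- The global section of a class. -/
abbrev sec (t : Coh.HH C G 0) : Γ(G, ⊤) := Sheaf.H.equiv₀ (Coh.toAb G) isTerminalTop t

/-- The coordinate of a section in a frame. -/
def co (t : Coh.HH C G 0) : Γ(C, V) :=
  (he.exists_coord le_rfl (res G (le_top : V ≤ ⊤) (sec G t))).choose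

theorem co_spec (t : Coh.HH C G 0) : res G (le_top : V ≤ ⊤) (sec G t) = co G he t • e := by
  have := (he.exists_coord le_rfl (res G (le_top : V ≤ ⊤) (sec G t))).choose_spec
  exact this.trans (congrArg (co G he t • ·) (res_self e))

theorem co_unique {t : Coh.HH C G 0} {r : Γ(C, V)} (h : res G (le_top : V ≤ ⊤) (sec G t) = r • e) :
    co G he t = r := by
  refine he.coord_unique le_rfl ?_
  rw [res_self, ← co_spec, h]

theorem co_add (s t : Coh.HH C G 0) : co G he (s + t) = co G he s + co G he t := co_unique G he (by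
  rw [show sec G (s + t) = sec G s + sec G t from map_add (Sheaf.H.equiv₀ (Coh.toAb G) isTerminalTop) s t,
    map_add, co_spec G he s, co_spec G he t, add_smul])

theorem co_smul (a : k) (t : Coh.HH C G 0) :
    co G he (a • t) = resR (le_top : V ≤ ⊤) (Coh.toGlobal (C ↘ Spec (CommRingCat.of k)) a) * co G he t :=
  co_unique G he (by
  rw [show sec G (a • t) = (show Γ(C, ⊤) from Coh.resTop C (op ⊤) (Coh.toGlobal (C ↘ Spec (CommRingCat.of k)) a)) •
    sec G t from CurveCohLib.h0Equiv_smul G a t, res_smul, co_spec G he t, mul_smul]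
  congr 1
  exact resR_resR (le_top : (⊤ : C.Opens) ≤ ⊤) (le_top : V ≤ ⊤) _)

/-- The value of a section at a rational point, in a frame. -/
def val (x : Pt k C) (h : x.pt ∈ V) : Coh.HH C G 0 →ₗ[k] k where
  toFun t := ev x h (co G he t)
  map_add' s t := by rw [co_add, map_add]
  map_smul' a t := by
    rw [co_smul, map_mul, RingHom.id_apply, smul_eq_mul]
    congr 1
    exact ev_const x h a

include he in
theorem germ_generates {p : C} (hp : p ∈ V) (v : G.presheaf.stalk p) :
    ∃ a : C.presheaf.stalk p, v = a • G.presheaf.germ V p hp e := by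
  obtain ⟨W, hpW, n, rfl⟩ := TopCat.Presheaf.exists_germ_eq G.presheaf v
  obtain ⟨r, hr⟩ := he.exists_coord (inf_le_right : W ⊓ V ≤ V) (res G (inf_le_left : W ⊓ V ≤ W) n)
  refine ⟨C.presheaf.germ (W ⊓ V) p ⟨hpW, hp⟩ r, ?_⟩
  have h1 := congrArg (G.presheaf.germ (W ⊓ V) p ⟨hpW, hp⟩) hr
  erw [QCoh.germ_smul' G] at h1
  rw [show G.presheaf.germ (W ⊓ V) p ⟨hpW, hp⟩ (res G (inf_le_left : W ⊓ V ≤ W) n) = G.presheaf.germ W p hpW n from
      G.presheaf.germ_res_apply (homOfLE inf_le_left) p ⟨hpW, hp⟩ n,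
    show G.presheaf.germ (W ⊓ V) p ⟨hpW, hp⟩ (res G (inf_le_right : W ⊓ V ≤ V) e) = G.presheaf.germ V p hp e from
      G.presheaf.germ_res_apply (homOfLE inf_le_right) p ⟨hpW, hp⟩ e] at h1
  exact h1

theorem germ_sec {p : C} (hp : p ∈ V) (t : Coh.HH C G 0) :
    G.presheaf.germ ⊤ p trivial (sec G t) =
      C.presheaf.germ V p hp (co G he t) • G.presheaf.germ V p hp e := by
  have h1 := congrArg (G.presheaf.germ V p hp) (co_spec G he t)
  erw [QCoh.germ_smul' G] at h1
  rw [← h1]
  exact (G.presheaf.germ_res_apply (homOfLE (le_top : V ≤ ⊤)) p hp (sec G t)).symm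

theorem germIn_iff (hG : PicF.IsInvertible G) (x : Pt k C) (h : x.pt ∈ V) (t : Coh.HH C G 0) :
    GermIn G x.pt t ↔ val G he x h t = 0 := by
  show _ ↔ ev x h (co G he t) = 0
  rw [← germ_mem_maximalIdeal_iff x h]
  obtain ⟨φ⟩ := H23.InvStalk.exists_stalk_equiv hG x.pt
  constructor
  · intro ht
    have h2 : φ (G.presheaf.germ ⊤ x.pt trivial (sec G t)) ∈ IsLocalRing.maximalIdeal (C.presheaf.stalk x.pt) := by
      refine Submodule.smul_induction_on (p := fun v => φ v ∈ IsLocalRing.maximalIdeal _) ht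
        (fun b hb m _ => ?_) fun b c hb hc => ?_
      · rw [map_smul, smul_eq_mul]
        exact Ideal.mul_mem_right _ _ hb
      · rw [map_add]
        exact add_mem hb hc
    rw [germ_sec G he h, map_smul, smul_eq_mul] at h2
    refine ((IsLocalRing.maximalIdeal.isMaximal _).isPrime.mem_or_mem h2).resolve_right fun hm => ?_
    obtain ⟨a, ha⟩ := germ_generates G he h (φ.symm 1)
    have := congrArg φ ha
    rw [φ.apply_symm_apply, map_smul, smul_eq_mul] at this
    exact (IsLocalRing.maximalIdeal.isMaximal _).ne_top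
      ((Ideal.eq_top_iff_one _).2 (this ▸ Ideal.mul_mem_left _ a hm))
  · intro hm
    unfold GermIn
    rw [show G.presheaf.germ ⊤ x.pt trivial (Sheaf.H.equiv₀ (Coh.toAb G) isTerminalTop t : Γ(G, ⊤)) = _ from
      germ_sec G he h t]
    exact Submodule.smul_mem_smul hm Submodule.mem_top

/-- A section with zero coordinate on a non-empty open vanishes. -/
theorem co_ne_zero (hG : PicF.IsInvertible G) (hne : (V : Set C).Nonempty) {t : Coh.HH C G 0} (ht : t ≠ 0) :
    co G he t ≠ 0 := fun h0 => by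
  refine ht ((Sheaf.H.equiv₀ (Coh.toAb G) isTerminalTop).injective ?_)
  rw [map_zero]
  refine eq_of_locally (M := G) _ _ fun p _ => ?_
  obtain ⟨U, hpU, d, hd⟩ := InvX.exists_frame hG p
  refine ⟨U, le_top, hpU, ?_⟩
  rw [map_zero]
  obtain ⟨r, hr⟩ := hd.exists_coord le_rfl (res G (le_top : U ≤ ⊤) (sec G t))
  rw [res_self] at hr
  suffices r = 0 by
    show res G (le_top : U ≤ ⊤) (sec G t) = 0
    rw [hr, this, zero_smul]
  haveI : Nonempty U := ⟨⟨p, hpU⟩⟩
  obtain ⟨q, hqU, hqV⟩ := nonempty_preirreducible_inter U.2 V.2 ⟨p, hpU⟩ hne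
  have hz : resR (inf_le_left : U ⊓ V ≤ U) r = 0 := by
    refine (hd.res (inf_le_left : U ⊓ V ≤ U)).coord_unique le_rfl ?_
    rw [res_self, ← res_smul, ← hr, res_res, zero_smul,
      ← res_res (le_top : V ≤ ⊤) (inf_le_right : U ⊓ V ≤ V), co_spec G he t, h0, zero_smul, map_zero]
  haveI : Nonempty (U ⊓ V : C.Opens) := ⟨⟨q, hqU, hqV⟩⟩
  refine map_injective_of_isIntegral C (homOfLE (inf_le_left : U ⊓ V ≤ U)) ?_
  exact hz.trans (map_zero _).symm

end Groth.Agent.JacTheta
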