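import Groth.Agent.JacTheta.Pic
import Groth.Agent.Lib.CurveCanonical
import Groth.Agent.CurveCohLib.GermTwist
import Groth.Agent.CurveEmbed.Equiv
import Groth.Agent.S1536

/-! Numerical invariants of line bundle classes on a curve and twists by rational points. -/

set_option linter.unusedSectionVars false
set_option linter.style.haveILetI false
set_option linter.overlappingInstances false

universe u

open CategoryTheory CategoryTheory.Limits AlgebraicGeometry

noncomputable section

attribute [local instance] Curv2.resAlgebra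

namespace Groth.Agent.JacTheta

open scoped H23.PicMul
open Groth.Agent.CurveBundle Groth.Agent.CurveSlope Groth.Agent.CurveStable Groth.Agent.CurvePoint

variable (k : Type u) [Field k] {C : Scheme.{u}} [C.Over (Spec (CommRingCat.of k))]

/-- The dimension of the cohomology of a class. -/
def hh (i : ℕ) : PicF.Cl C → ℕ :=
  Quot.lift (fun M => Module.finrank k (Coh.HH C M i))
    fun _ _ ⟨e⟩ => (CurveCohLib.hhEquiv (k := k) e i).finrank_eq

theorem hh_cl (i : ℕ) (M : C.Modules) : hh k i (PicF.cl M) = Module.finrank k (Coh.HH C M i) := rfl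

/-- Rational points. -/
abbrev Pt (C : Scheme.{u}) [C.Over (Spec (CommRingCat.of k))] : Type u :=
  {x : Spec (CommRingCat.of k) ⟶ C // x ≫ (C ↘ Spec (CommRingCat.of k)) = 𝟙 _}

variable {k} in
/-- The underlying point. -/
abbrev Pt.pt (x : Pt k C) : C := x.1 (IsLocalRing.closedPoint k)

variable [IsIntegral C] [IsProper (C ↘ Spec (CommRingCat.of k))] [Smooth (C ↘ Spec (CommRingCat.of k))]

/-- The degree of a class. -/
def dgr : PicF.Cl C → ℤ :=
  Quot.lift (fun M => Curv2.deg k C M 1) fun _ _ ⟨e⟩ => CurveRR.deg_congr k e 1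

theorem dgr_cl (M : C.Modules) : dgr k (PicF.cl M) = Curv2.deg k C M 1 := rfl

variable {k}

theorem Pt.ext' {x y : Pt k C} (h : x.pt = y.pt) : x = y :=
  Subtype.ext (CurveEmbed.section_ext k x.2 y.2 h)

theorem Pt.isClosed (x : Pt k C) : IsClosed ({x.pt} : Set C) :=
  (CurveEmbed.section_point k x.1 x.2).1

theorem Pt.ker_eq (x : Pt k C) : x.1.ker = ptIdeal x.pt x.isClosed :=
  (CurveEmbed.section_point k x.1 x.2).2.1

theorem Pt.surjective_resMap (x : Pt k C) : Function.Surjective (Curv2.resMap k C x.pt) :=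
  (CurveEmbed.section_point k x.1 x.2).2.2

theorem Pt.finrank_residueField (x : Pt k C) :
    Module.finrank k (C.residueField x.pt) = 1 := by
  refine le_antisymm (finrank_le_one (1 : C.residueField x.pt) fun w => ?_) ?_
  · obtain ⟨c, hc⟩ := x.surjective_resMap w
    exact ⟨c, (Algebra.smul_def c (1 : C.residueField x.pt)).trans ((mul_one _).trans hc)⟩
  · haveI : Module.Finite k (C.residueField x.pt) :=
      Module.Finite.of_surjective (Algebra.linearMap k (C.residueField x.pt)) x.surjective_resMap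
    exact Module.finrank_pos

variable (hdim : topologicalKrullDim C = 1)

include hdim in
theorem Pt.isInvertible (x : Pt k C) : PicF.IsInvertible (ClSub.idealMod x.1.ker) := by
  rw [x.ker_eq]
  exact CurvePoint.isInvertible_ptMod x.pt x.isClosed k hdim

/-- The class of `O(x)`. -/
def O (x : Pt k C) : LB C := (lb (ClSub.idealMod x.1.ker) (x.isInvertible hdim))⁻¹

theorem O_inv_val (x : Pt k C) : (((O hdim x)⁻¹ : LB C) : PicF.Cl C) = PicF.cl (ClSub.idealMod x.1.ker) := by
  rw [O, inv_inv, lb_val]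

include hdim

theorem dgr_mul (c d : LB C) :
    dgr k ((c * d : LB C) : PicF.Cl C) = dgr k (c : PicF.Cl C) + dgr k (d : PicF.Cl C) := by
  obtain ⟨L, hL, hc⟩ := c.exists_rep
  obtain ⟨M, hM, hd⟩ := d.exists_rep
  rw [Units.val_mul, hc, hd, ← H23.PicMul.cl_tensor, dgr_cl, dgr_cl, dgr_cl]
  exact CurveRR.deg_tensor k hdim hL hM

theorem dgr_one : dgr k ((1 : LB C) : PicF.Cl C) = 0 := by
  rw [Units.val_one, H23.PicMul.one_def, dgr_cl]
  exact CurveDeg.deg_structureModule k

theorem dgr_inv (c : LB C) : dgr k ((c⁻¹ : LB C) : PicF.Cl C) = -dgr k (c : PicF.Cl C) := by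
  have h := dgr_mul (k := k) hdim c⁻¹ c
  rw [inv_mul_cancel, dgr_one hdim] at h
  omega

theorem dgr_O (x : Pt k C) : dgr k (O hdim x : PicF.Cl C) = 1 := by
  have h := dgr_inv (k := k) hdim (O hdim x)
  rw [O_inv_val, dgr_cl, x.ker_eq] at h
  have h' := CurveEmbed.deg_point k x.isClosed
  rw [x.finrank_residueField] at h'
  unfold CurvePoint.ptMod at h'
  push_cast at h'
  omega

theorem dgr_prod {ι : Type*} (s : Finset ι) (f : ι → LB C) :
    dgr k ((∏ i ∈ s, f i : LB C) : PicF.Cl C) = ∑ i ∈ s, dgr k (f i : PicF.Cl C) := by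
  classical
  induction s using Finset.induction_on with
  | empty => rw [Finset.prod_empty, Finset.sum_empty, dgr_one hdim]
  | insert a s ha ih => rw [Finset.prod_insert ha, Finset.sum_insert ha, dgr_mul hdim, ih]

theorem dgr_zpow (c : LB C) (n : ℤ) : dgr k ((c ^ n : LB C) : PicF.Cl C) = n * dgr k (c : PicF.Cl C) := by
  induction n using Int.induction_on with
  | zero => rw [zpow_zero, dgr_one hdim, zero_mul]
  | succ i ih => rw [zpow_add_one, dgr_mul hdim, ih]; ring
  | pred i ih => rw [zpow_sub_one, dgr_mul hdim, ih, dgr_inv hdim]; ring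

theorem dgr_pow (c : LB C) (n : ℕ) : dgr k ((c ^ n : LB C) : PicF.Cl C) = n * dgr k (c : PicF.Cl C) := by
  rw [← zpow_natCast, dgr_zpow hdim]

variable [GeometricallyConnected (C ↘ Spec (CommRingCat.of k))]

theorem hh_one_zero : hh k 0 ((1 : LB C) : PicF.Cl C) = 1 := by
  haveI := GrpSchLib.geometricallyReduced_of_smooth (C ↘ Spec (CommRingCat.of k))
  rw [Units.val_one, H23.PicMul.one_def, hh_cl]
  exact S1536.result k C

theorem hh_one_one : hh k 1 ((1 : LB C) : PicF.Cl C) = Curv2.genus k C := by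
  rw [Units.val_one, H23.PicMul.one_def, hh_cl]
  rfl

/-- Riemann–Roch. -/
theorem rr (c : LB C) :
    (hh k 0 (c : PicF.Cl C) : ℤ) - hh k 1 (c : PicF.Cl C) =
      dgr k (c : PicF.Cl C) + 1 - Curv2.genus k C := by
  obtain ⟨L, hL, hc⟩ := c.exists_rep
  have hLc := coh_of_free k (isFinLocFree_of_rank (InvEnd.isFinLocFreeOfRank_one hL))
  have h0 : Module.finrank k (Coh.HH C (Coh.structureModule C) 0) = 1 := by
    have h := hh_one_zero (k := k) hdim
    rwa [Units.val_one, H23.PicMul.one_def, hh_cl] at h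
  rw [hc, hh_cl, hh_cl, dgr_cl, ← CurveDuality.euler_eq k hdim hLc]
  unfold Curv2.deg
  rw [CurveDuality.euler_structure k h0 hdim]
  push_cast
  ring

theorem exists_dualizing : ∃ w : LB C, ∀ c : LB C,
    hh k 1 (c : PicF.Cl C) = hh k 0 ((w * c⁻¹ : LB C) : PicF.Cl C) := by
  obtain ⟨ω, μ, hω⟩ := CurveDuality.exists_isDualizing k (X := C) hdim
  refine ⟨lb ω hω.inv, fun c => ?_⟩
  obtain ⟨L, hL, hc⟩ := c.exists_rep
  obtain ⟨D, hD, hd⟩ := c⁻¹.exists_rep
  have e : PicF.cl (CohB1.tensorMod L D) = 1 := by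
    rw [H23.PicMul.cl_tensor, ← hc, ← hd, Units.mul_inv]
  rw [Units.val_mul, hd, hc, lb_val, mul_comm, ← H23.PicMul.cl_tensor, hh_cl, hh_cl]
  exact CurveDuality.finrank_h1_eq k hω hdim hL ((PicGrp.cl_eq_cl_iff _ _).1 e).some

variable (k) in
/-- The dualizing class. -/
def can : LB C :=
  (exists_dualizing (k := k) hdim).choose

theorem serre (c : LB C) : hh k 1 (c : PicF.Cl C) = hh k 0 ((can k hdim * c⁻¹ : LB C) : PicF.Cl C) :=
  (exists_dualizing (k := k) hdim).choose_spec c

include hdim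

theorem hh_can_zero : hh k 0 (can k hdim : PicF.Cl C) = Curv2.genus k C := by
  have h := serre (k := k) hdim (1 : LB C)
  rw [inv_one, mul_one, hh_one_one hdim] at h
  exact h.symm

theorem hh_can_one : hh k 1 (can k hdim : PicF.Cl C) = 1 := by
  rw [serre hdim, mul_inv_cancel, hh_one_zero hdim]

theorem dgr_can : dgr k (can k hdim : PicF.Cl C) = 2 * (Curv2.genus k C : ℤ) - 2 := by
  have h := rr (k := k) hdim (can k hdim)
  rw [hh_can_zero hdim, hh_can_one hdim] at h
  push_cast at h
  omega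

theorem hh_eq_zero_of_dgr_neg (c : LB C) (h : dgr k (c : PicF.Cl C) < 0) : hh k 0 (c : PicF.Cl C) = 0 := by
  obtain ⟨L, hL, hc⟩ := c.exists_rep
  rw [hc, dgr_cl] at h
  rw [hc, hh_cl]
  exact CurveDuality.finrank_h0_of_deg_neg k hdim hL h

/-- Non-special classes: `h⁰ = deg + 1 - g`. -/
theorem hh_of_dgr_gt (c : LB C) (h : 2 * (Curv2.genus k C : ℤ) - 2 < dgr k (c : PicF.Cl C)) :
    hh k 1 (c : PicF.Cl C) = 0 ∧
      (hh k 0 (c : PicF.Cl C) : ℤ) = dgr k (c : PicF.Cl C) + 1 - Curv2.genus k C := by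
  have h1 : hh k 1 (c : PicF.Cl C) = 0 := by
    rw [serre hdim]
    refine hh_eq_zero_of_dgr_neg hdim _ ?_
    rw [dgr_mul hdim, dgr_inv hdim, dgr_can hdim]
    omega
  have := rr (k := k) hdim c
  rw [h1] at this
  refine ⟨h1, ?_⟩
  push_cast at this
  omega

end Groth.Agent.JacTheta
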