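import Groth.Agent.JacTheta.Coord
import Groth.Agent.GrpSchLib.SepPoints
import Mathlib.LinearAlgebra.Matrix.NonsingularInverse
import Mathlib.LinearAlgebra.Matrix.Determinant.Basic

/-! Rational points in general position impose independent conditions. -/

set_option linter.unusedSectionVars false
set_option linter.style.haveILetI false
set_option linter.overlappingInstances false
set_option backward.isDefEq.respectTransparency false
set_option backward.isDefEq.respectTransparency.types false

universe u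

open CategoryTheory CategoryTheory.Limits AlgebraicGeometry TopologicalSpace Opposite
open Groth.Agent.PnCoh.Finite (mapLin)

noncomputable section

namespace Groth.Agent.JacTheta

open scoped H23.PicMul
open Groth.Agent.CurveBundle Groth.Agent.CurveSlope Groth.Agent.CurveStable Groth.Agent.CurvePoint

variable {k : Type u} [Field k] {C : Scheme.{u}} [C.Over (Spec (CommRingCat.of k))]
  [IsIntegral C] [IsProper (C ↘ Spec (CommRingCat.of k))] [Smooth (C ↘ Spec (CommRingCat.of k))]

theorem germIn_mapLin {G' G : C.Modules} (φ : G' ⟶ G) (p : C) (t : Coh.HH C G' 0)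
    (h : GermIn G' p t) : GermIn G p (mapLin k φ 0 t) := by
  let F := DerSch.stalkFunctor C p
  have h1 : G.presheaf.germ ⊤ p trivial (Sheaf.H.equiv₀ (Coh.toAb G) isTerminalTop (mapLin k φ 0 t) : Γ(G, ⊤)) =
      F.map φ (G'.presheaf.germ ⊤ p trivial (Sheaf.H.equiv₀ (Coh.toAb G') isTerminalTop t : Γ(G', ⊤))) := by
    refine Eq.trans ?_ (TopCat.Presheaf.stalkFunctor_map_germ_apply ⊤ p trivial
      ((Scheme.Modules.toPresheaf C).map φ) _).symm
    refine congrArg (G.presheaf.germ ⊤ p trivial) ?_
    exact (Sheaf.H.equiv₀_naturality isTerminalTop ((QCoh.toAbFunctor C).map φ) t).symm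
  unfold GermIn
  rw [h1]
  refine Submodule.smul_induction_on (p := fun v => F.map φ v ∈ IsLocalRing.maximalIdeal (C.presheaf.stalk p) •
      (⊤ : Submodule (C.presheaf.stalk p) (G.presheaf.stalk p))) h
    (fun a ha m _ => ?_) fun a b ha hb => ?_
  · refine Set.mem_of_eq_of_mem (map_smul (F.map φ).hom a m) ?_
    exact Submodule.smul_mem_smul ha Submodule.mem_top
  · refine Set.mem_of_eq_of_mem (map_add (F.map φ).hom a b) ?_
    exact add_mem ha hb

variable (hdim : topologicalKrullDim C = 1)
include hdim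

theorem exists_twist_hom (d : LB C) {G : C.Modules} (hG : PicF.IsInvertible G)
    (hd : (d : PicF.Cl C) = PicF.cl G) (l : List (Pt k C)) :
    ∃ (G' : C.Modules) (φ : G' ⟶ G), PicF.IsInvertible G' ∧
      PicF.cl G' = ((d * ((l.map (O hdim)).prod)⁻¹ : LB C) : PicF.Cl C) ∧
      Function.Injective (mapLin k φ 0) ∧ ∀ x ∈ l, ∀ t, GermIn G x.pt (mapLin k φ 0 t) := by
  induction l with
  | nil =>
    refine ⟨G, 𝟙 G, hG, ?_, fun a b h => by rwa [CurveDuality.mapLin_id, CurveDuality.mapLin_id] at h, fun x hx => absurd hx List.not_mem_nil⟩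
    rw [List.map_nil, List.prod_nil, inv_one, mul_one, hd]
  | cons a l ih =>
    obtain ⟨G', φ, hG', hcl, hinj, hgerm⟩ := ih
    have hS := CurvePoint.shortExact_of_iso_mid _ _ _
      (CurveTensor.shortExact_tensor (isFinLocFree_of_rank (InvEnd.isFinLocFreeOfRank_one hG')) _ _ _
        (shortExact_pt a.pt a.isClosed)) (KFlatLib.tensorUnitIso G')
    let f := (DCoh.tensorBi.obj G').map (ClSub.idealModι (ptIdeal a.pt a.isClosed)) ≫
      (KFlatLib.tensorUnitIso G').hom
    refine ⟨(DCoh.tensorBi.obj G').obj (ptMod a.pt a.isClosed), f ≫ φ,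
      InvX.isInvertible_tensorMod hG' (CurvePoint.isInvertible_ptMod a.pt a.isClosed k hdim), ?_, ?_, ?_⟩
    · show PicF.cl G' * PicF.cl (ClSub.idealMod (ptIdeal a.pt a.isClosed)) = _
      rw [List.map_cons, List.prod_cons, mul_inv_rev, ← mul_assoc, Units.val_mul, ← hcl, O_inv_val, a.ker_eq]
    · intro s t hst
      replace hst : mapLin k φ 0 (mapLin k f 0 s) = mapLin k φ 0 (mapLin k f 0 t) :=
        (FFun.mapLin_comp f φ 0 s).trans (hst.trans (FFun.mapLin_comp f φ 0 t).symm)
      exact CurveCohLib.mapLin_f_zero_injective k hS (hinj hst)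
    · intro x hx t
      rw [← FFun.mapLin_comp f φ 0 t]
      rcases List.mem_cons.1 hx with rfl | hx
      · refine germIn_mapLin φ x.pt _ ((twist_module hdim x hG').2.2.2 _ ?_)
        exact LinearMap.mem_ker.1 ((CurveCohLib.ker_mapLin_g k hS 0).ge ⟨t, rfl⟩)
      · exact hgerm x hx _

theorem hh_le_twist_list (d : LB C) (l : List (Pt k C)) :
    hh k 0 (d : PicF.Cl C) ≤ hh k 0 ((d * ((l.map (O hdim)).prod)⁻¹ : LB C) : PicF.Cl C) + l.length := by
  induction l generalizing d with
  | nil => rw [List.map_nil, List.prod_nil, inv_one, mul_one, List.length_nil, Nat.add_zero]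
  | cons a l ih =>
    rw [List.map_cons, List.prod_cons, List.length_cons, mul_inv, ← mul_assoc]
    have h1 := ih (d * (O hdim a)⁻¹)
    have h2 := (hh_twist_bounds hdim a d).2
    omega

variable {G : C.Modules} {V : C.Opens} {e : Γ(G, V)}

/-- Points whose evaluations are independent impose independent conditions. -/
theorem hh_drop (d : LB C) (hG : PicF.IsInvertible G) (hd : (d : PicF.Cl C) = PicF.cl G)
    (he : InvX.IsFrame e) {m : ℕ} (x : Fin m → Pt k C) (hx : ∀ j, (x j).pt ∈ V)
    (hs : Function.Surjective (LinearMap.pi fun j => val G he (x j) (hx j))) :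
    hh k 0 ((d * (∏ j, O hdim (x j))⁻¹ : LB C) : PicF.Cl C) + m = hh k 0 (d : PicF.Cl C) := by
  haveI := CurveCohLib.isNoetherian_of_proper (k := k) (X := C)
  haveI := S0002.result k C G (coh_of_free k (isFinLocFree_of_rank (InvEnd.isFinLocFreeOfRank_one hG))) 0
  have hp : (∏ j, O hdim (x j)) = ((List.ofFn x).map (O hdim)).prod := by
    rw [List.map_ofFn, List.prod_ofFn]
    rfl
  have hlow := hh_le_twist_list hdim d (List.ofFn x)
  obtain ⟨G', φ, hG', hcl, hinj, hgerm⟩ := exists_twist_hom hdim d hG hd (List.ofFn x)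
  rw [List.length_ofFn, ← hp] at hlow
  rw [← hp] at hcl
  have hker : LinearMap.range (mapLin k φ 0) ≤ LinearMap.ker (LinearMap.pi fun j => val G he (x j) (hx j)) := by
    rintro _ ⟨t, rfl⟩
    refine LinearMap.mem_ker.2 (funext fun j => ?_)
    exact (germIn_iff G he hG (x j) (hx j) _).1 (hgerm (x j) (List.mem_ofFn.2 ⟨j, rfl⟩) t)
  have h1 := Submodule.finrank_mono hker
  rw [LinearMap.finrank_range_of_inj hinj] at h1
  have h2 := LinearMap.finrank_range_add_finrank_ker (LinearMap.pi fun j => val G he (x j) (hx j))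
  rw [LinearMap.range_eq_top.2 hs, finrank_top, Module.finrank_fin_fun] at h2
  rw [← hcl, hh_cl, hd, hh_cl] at hlow ⊢
  omega

/-- There are points whose evaluations are independent. -/
theorem exists_independent (hPts : ∀ W : C.Opens, (W : Set C).Nonempty → ∃ x : Pt k C, x.pt ∈ W)
    (hG : PicF.IsInvertible G) (he : InvX.IsFrame e) (hne : (V : Set C).Nonempty) {m : ℕ}
    (hm : m ≤ Module.finrank k (Coh.HH C G 0)) :
    ∃ (x : Fin m → Pt k C) (hx : ∀ j, (x j).pt ∈ V),
      Function.Surjective (LinearMap.pi fun j => val G he (x j) (hx j)) := by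
  haveI := CurveCohLib.isNoetherian_of_proper (k := k) (X := C)
  haveI := S0002.result k C G (coh_of_free k (isFinLocFree_of_rank (InvEnd.isFinLocFreeOfRank_one hG))) 0
  induction m with
  | zero => exact ⟨Fin.elim0, fun j => Fin.elim0 j, fun v => ⟨0, funext fun j => Fin.elim0 j⟩⟩
  | succ m ih =>
    obtain ⟨x, hx, hs⟩ := ih (by omega)
    let Φ := LinearMap.pi fun j => val G he (x j) (hx j)
    have h2 := LinearMap.finrank_range_add_finrank_ker Φ
    rw [LinearMap.range_eq_top.2 hs, finrank_top, Module.finrank_fin_fun] at h2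
    haveI : Nontrivial (LinearMap.ker Φ) := Module.nontrivial_of_finrank_pos (R := k) (by omega)
    obtain ⟨⟨t, ht⟩, ht0⟩ := exists_ne (0 : LinearMap.ker Φ)
    have hco := co_ne_zero G he hG hne (t := t) fun h => ht0 (Subtype.ext h)
    obtain ⟨y, hy⟩ := hPts (C.basicOpen (co G he t)) (Set.nonempty_iff_ne_empty.2 fun h => hco
      ((basicOpen_eq_bot_iff _).1 (Opens.ext h)))
    have hyV := C.basicOpen_le _ hy
    have hyt : val G he y hyV t ≠ 0 := (mem_basicOpen_iff y hyV _).1 hy
    refine ⟨Fin.snoc x y, fun j => Fin.lastCases (by simpa using hyV) (fun i => by simpa using hx i) j,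
      fun v => ?_⟩
    obtain ⟨s, hs'⟩ := hs fun i => v i.castSucc
    refine ⟨s + ((v (Fin.last m) - val G he y hyV s) * (val G he y hyV t)⁻¹) • t, funext fun j => ?_⟩
    refine Fin.lastCases ?_ (fun i => ?_) j
    · simp only [LinearMap.pi_apply, Fin.snoc_last, map_add, map_smul, smul_eq_mul]
      field_simp
      ring
    · have h3 : val G he (x i) (hx i) t = 0 := congrFun (LinearMap.mem_ker.1 ht) i
      simp only [LinearMap.pi_apply, Fin.snoc_castSucc, map_add, map_smul, smul_eq_mul, h3, mul_zero, add_zero]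
      exact congrFun hs' i

/-- The fibre power as a scheme over the field, with the projections of its points. -/
abbrev powPt {r : ℕ} (z : Spec (CommRingCat.of k) ⟶ SymProd.fibPow (C ↘ Spec (CommRingCat.of k)) r)
    (hz : z ≫ WidePullback.base (fun (_ : Fin r) => (C ↘ Spec (CommRingCat.of k))) = 𝟙 _) (j : Fin r) : Pt k C :=
  ⟨z ≫ WidePullback.π (fun (_ : Fin r) => (C ↘ Spec (CommRingCat.of k))) j, by
    rw [Category.assoc, WidePullback.π_arrow, hz]⟩

/-- General points impose independent conditions on the sections of a class. -/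
theorem exists_open (hPts : ∀ W : C.Opens, (W : Set C).Nonempty → ∃ x : Pt k C, x.pt ∈ W)
    (d : LB C) (r : ℕ) :
    ∃ U : (SymProd.fibPow (C ↘ Spec (CommRingCat.of k)) r).Opens,
      (U : Set ↥(SymProd.fibPow (C ↘ Spec (CommRingCat.of k)) r)).Nonempty ∧
      ∀ (z : Spec (CommRingCat.of k) ⟶ SymProd.fibPow (C ↘ Spec (CommRingCat.of k)) r)
        (hz : z ≫ WidePullback.base (fun (_ : Fin r) => (C ↘ Spec (CommRingCat.of k))) = 𝟙 _),
        (∀ p, z.base p ∈ U) →
        hh k 0 ((d * (∏ j, O hdim (powPt z hz j))⁻¹ : LB C) : PicF.Cl C) = hh k 0 (d : PicF.Cl C) - r := by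
  classical
  obtain ⟨G, hG, hd⟩ := d.exists_rep
  obtain ⟨V, hV, e, he⟩ := InvX.exists_frame hG (genericPoint C)
  have hne : (V : Set C).Nonempty := ⟨_, hV⟩
  let m := min r (Module.finrank k (Coh.HH C G 0))
  have hmr : m ≤ r := min_le_left _ _
  obtain ⟨x, hx, hsx⟩ := exists_independent hdim hPts hG he hne (m := m) (min_le_right _ _)
  choose s hs using fun i => hsx (Pi.single i 1)
  let P := SymProd.fibPow (C ↘ Spec (CommRingCat.of k)) r
  letI : P.Over (Spec (CommRingCat.of k)) :=
    ⟨WidePullback.base (fun (_ : Fin r) => (C ↘ Spec (CommRingCat.of k)))⟩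
  let pr : Fin m → (P ⟶ C) := fun j => WidePullback.π (fun (_ : Fin r) => (C ↘ Spec (CommRingCat.of k))) (Fin.castLE hmr j)
  have hpr : ∀ j, pr j ≫ (C ↘ Spec (CommRingCat.of k)) = P ↘ Spec (CommRingCat.of k) :=
    fun j => WidePullback.π_arrow _ _
  let W : P.Opens := ⟨⋂ j, (pr j) ⁻¹ᵁ V, isOpen_iInter_of_finite fun j => ((pr j) ⁻¹ᵁ V).2⟩
  have hW : ∀ j, W ≤ (pr j) ⁻¹ᵁ V := fun j p hp => Set.mem_iInter.1 hp j
  let M : Matrix (Fin m) (Fin m) Γ(P, W) :=
    Matrix.of fun i j => ((pr j).appLE V W (hW j)).hom (co G he (s i))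
  have hM : ∀ (z : Pt k P) (hzW : z.pt ∈ W), ev z hzW M.det =
      (Matrix.of fun i j => val G he (z.map (pr j) (hpr j)) (hW j hzW) (s i)).det := fun z hzW => by
    rw [RingHom.map_det]
    congr 1
    ext i j
    exact ev_map (pr j) (hpr j) z (hW j) hzW _
  refine ⟨P.basicOpen M.det, ?_, fun z hz hzU => ?_⟩
  · obtain ⟨y, hy⟩ := hPts V hne
    let xx : Fin r → Pt k C := fun i => if h : i.1 < m then x ⟨i.1, h⟩ else y
    let z₀ : Pt k P := ⟨WidePullback.lift (𝟙 _) (fun i => (xx i).1) fun i => (xx i).2,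
      WidePullback.lift_base _ _ _ _⟩
    have hmap : ∀ j, z₀.map (pr j) (hpr j) = x j := fun j => Subtype.ext (by
      show WidePullback.lift _ _ _ ≫ pr j = _
      rw [WidePullback.lift_π]
      simp [xx, j.2])
    have hzW : z₀.pt ∈ W := Set.mem_iInter.2 fun j => by
      show (z₀.map (pr j) (hpr j)).pt ∈ V
      rw [hmap j]
      exact hx j
    refine ⟨z₀.pt, (mem_basicOpen_iff z₀ hzW _).2 ?_⟩
    rw [hM z₀ hzW]
    have h1 : (Matrix.of fun i j => val G he (z₀.map (pr j) (hpr j)) (hW j hzW) (s i)) = 1 := by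
      ext i j
      simp only [Matrix.of_apply, Matrix.one_apply]
      have h2 := congrFun (hs i) j
      simp only [LinearMap.pi_apply] at h2
      have h3 : val G he (z₀.map (pr j) (hpr j)) (hW j hzW) (s i) = val G he (x j) (hx j) (s i) := by
        congr 1
        congr 1
        exact hmap j
      rw [h3, h2, Pi.single_apply]
      exact if_congr (eq_comm) rfl rfl
    rw [h1, Matrix.det_one]
    exact one_ne_zero
  · let zp : Pt k P := ⟨z, hz⟩
    have hzW : zp.pt ∈ W := P.basicOpen_le _ (hzU (IsLocalRing.closedPoint k))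
    have hdet := (mem_basicOpen_iff zp hzW _).1 (hzU (IsLocalRing.closedPoint k))
    rw [hM zp hzW] at hdet
    let A : Matrix (Fin m) (Fin m) k := Matrix.of fun i j => val G he (zp.map (pr j) (hpr j)) (hW j hzW) (s i)
    have hsur : Function.Surjective (LinearMap.pi fun j => val G he (zp.map (pr j) (hpr j)) (hW j hzW)) := fun v => by
      refine ⟨∑ i, (Matrix.vecMul v A⁻¹) i • s i, ?_⟩
      have hA : Matrix.vecMul (Matrix.vecMul v A⁻¹) A = v := by
        rw [Matrix.vecMul_vecMul, Matrix.nonsing_inv_mul A (isUnit_iff_ne_zero.2 hdet), Matrix.vecMul_one]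
      funext j
      simp only [LinearMap.pi_apply, map_sum, map_smul, smul_eq_mul]
      exact (congrFun hA j)
    have hdrop := hh_drop hdim d hG hd he (fun j => zp.map (pr j) (hpr j)) (fun j => hW j hzW) hsur
    have hprod : (∏ i, O hdim (powPt z hz i)) = (∏ j : Fin m, O hdim (zp.map (pr j) (hpr j))) *
        (((Finset.univ.filter fun i : Fin r => ¬ i.1 < m).toList.map fun i => powPt z hz i).map (O hdim)).prod := by
      rw [List.map_map, Finset.prod_map_toList, ← Finset.prod_filter_mul_prod_filter_not Finset.univ (fun i : Fin r => i.1 < m)]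
      congr 1
      refine (Finset.prod_nbij (Fin.castLE hmr) ?_ ?_ ?_ ?_).symm
      · intro j _; simp
      · intro a _ b _ h; exact Fin.castLE_injective hmr h
      · intro i hi; exact ⟨⟨i.1, by simpa using hi⟩, by simp, rfl⟩
      · intro j _; rfl
    set D : LB C := d * (∏ j : Fin m, O hdim (zp.map (pr j) (hpr j)))⁻¹
    set Q : LB C := (((Finset.univ.filter fun i : Fin r => ¬ i.1 < m).toList.map fun i => powPt z hz i).map (O hdim)).prod with hQ
    rw [hprod, mul_inv, ← mul_assoc]
    show hh k 0 ((D * Q⁻¹ : LB C) : PicF.Cl C) = _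
    rw [hd, hh_cl] at hdrop ⊢
    by_cases hrn : r ≤ Module.finrank k (Coh.HH C G 0)
    · have hmr' : m = r := min_eq_left hrn
      have hQ1 : Q = 1 := by
        have : (Finset.univ.filter fun i : Fin r => ¬ i.1 < m) = ∅ := by
          ext i
          have := i.2
          simp
          omega
        rw [hQ, this, Finset.toList_empty]
        rfl
      rw [hQ1, inv_one, mul_one]
      omega
    · have h0 : m = Module.finrank k (Coh.HH C G 0) := min_eq_right (by omega)
      have h4 := hh_prod_O_le hdim ((Finset.univ.filter fun i : Fin r => ¬ i.1 < m).toList.map fun i => powPt z hz i)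
        (D * Q⁻¹)
      rw [← hQ, inv_mul_cancel_right] at h4
      omega

/-- Rational points are dense over a separably closed field. -/
theorem exists_pt [IsSepClosed k] (W : C.Opens) (hW : (W : Set C).Nonempty) : ∃ x : Pt k C, x.pt ∈ W := by
  obtain ⟨p, hp⟩ := hW
  obtain ⟨s, hs, hsW⟩ := GrpSchLib.exists_point_of_smooth (C ↘ Spec (CommRingCat.of k)) W hp
  exact ⟨⟨s, hs⟩, hsW⟩

end Groth.Agent.JacTheta

namespace Groth.Agent.JacTheta

open scoped H23.PicMul

variable {k : Type u} [Field k] {C : Scheme.{u}} [C.Over (Spec (CommRingCat.of k))]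
  [IsIntegral C] [IsProper (C ↘ Spec (CommRingCat.of k))] [Smooth (C ↘ Spec (CommRingCat.of k))]

/-- Some rational points impose independent conditions on the sections of a class. -/
theorem exists_points (hdim : topologicalKrullDim C = 1)
    (hPts : ∀ W : C.Opens, (W : Set C).Nonempty → ∃ x : Pt k C, x.pt ∈ W)
    (d : LB C) {m : ℕ} (hm : m ≤ hh k 0 (d : PicF.Cl C)) :
    ∃ x : Fin m → Pt k C,
      hh k 0 ((d * (∏ j, O hdim (x j))⁻¹ : LB C) : PicF.Cl C) + m = hh k 0 (d : PicF.Cl C) := by
  obtain ⟨G, hG, hd⟩ := d.exists_rep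
  obtain ⟨V, hV, e, he⟩ := InvX.exists_frame hG (genericPoint C)
  rw [hd, hh_cl] at hm
  obtain ⟨x, hx, hs⟩ := exists_independent hdim hPts hG he ⟨_, hV⟩ hm
  exact ⟨x, hh_drop hdim d hG hd he x hx hs⟩

theorem cl_tensorList_ofFn (hdim : topologicalKrullDim C = 1) {m : ℕ} (x : Fin m → Pt k C) :
    PicF.cl (FGA.tensorList (List.ofFn fun i => ClSub.idealMod (x i).1.ker)) =
      (((∏ i, O hdim (x i))⁻¹ : LB C) : PicF.Cl C) := by
  rw [cl_tensorList, List.map_ofFn, List.prod_ofFn, ← Finset.prod_inv_distrib, Units.coe_prod]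
  exact Finset.prod_congr rfl fun i _ => (O_inv_val hdim (x i)).symm

end Groth.Agent.JacTheta
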