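import Groth.Agent.JacTheta.Abel
import Groth.Agent.JacTheta.General
import Mathlib.AlgebraicGeometry.AlgClosed.Basic

/-! Effective classes: products of `O(x)`. -/

set_option autoImplicit false
set_option linter.unusedSectionVars false
set_option linter.style.haveILetI false
set_option linter.overlappingInstances false
set_option backward.isDefEq.respectTransparency false
set_option backward.isDefEq.respectTransparency.types false

universe u

open CategoryTheory CategoryTheory.Limits AlgebraicGeometry TopologicalSpace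

noncomputable section

namespace Groth.Agent.JacTheta

open scoped H23.PicMul
open Groth.Agent.H23.TrivBasic Groth.Agent.InvX

variable {k : Type u} [Field k] {C : Scheme.{u}} [C.Over (Spec (CommRingCat.of k))]
  [IsIntegral C] [IsProper (C ↘ Spec (CommRingCat.of k))] [Smooth (C ↘ Spec (CommRingCat.of k))]
  (hdim : topologicalKrullDim C = 1)

/-- The class of the divisor `x₁ + ⋯ + x_r`. -/
def Dv {r : ℕ} (x : Fin r → Pt k C) : LB C := ∏ i, O hdim (x i)

include hdim

theorem dgr_Dv {r : ℕ} (x : Fin r → Pt k C) : dgr k (Dv hdim x : PicF.Cl C) = r := by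
  rw [Dv, dgr_prod hdim]
  simp [dgr_O hdim]

theorem Dv_zero (x : Fin 0 → Pt k C) : Dv hdim x = 1 := Finset.prod_empty

theorem Dv_cons {r : ℕ} (a : Pt k C) (x : Fin r → Pt k C) :
    Dv hdim (Fin.cons a x) = O hdim a * Dv hdim x := by
  rw [Dv, Fin.prod_univ_succ]
  simp [Dv]

theorem hh_le_mul_Dv {r : ℕ} (x : Fin r → Pt k C) (d : LB C) :
    hh k 0 (d : PicF.Cl C) ≤ hh k 0 ((d * Dv hdim x : LB C) : PicF.Cl C) := by
  have h := hh_prod_O_le hdim (List.ofFn x) d
  rwa [List.map_ofFn, List.prod_ofFn] at h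

theorem hh_Dv_pos [GeometricallyConnected (C ↘ Spec (CommRingCat.of k))] {r : ℕ} (x : Fin r → Pt k C) :
    0 < hh k 0 (Dv hdim x : PicF.Cl C) := by
  have h := hh_le_mul_Dv hdim x 1
  rw [hh_one_zero hdim, one_mul] at h
  omega

/-- A class of positive degree with a section has a rational point in its base locus or many sections. -/
theorem exists_sub_pt [IsAlgClosed k] (d : LB C) (hd : 0 < dgr k (d : PicF.Cl C))
    (h0 : 0 < hh k 0 (d : PicF.Cl C)) :
    ∃ x : Pt k C, 0 < hh k 0 ((d * (O hdim x)⁻¹ : LB C) : PicF.Cl C) := by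
  haveI := CurveCohLib.isNoetherian_of_proper (k := k) (X := C)
  obtain ⟨G, hG, hc⟩ := d.exists_rep
  rw [hc, hh_cl] at h0
  haveI : Nontrivial (Coh.HH C G 0) := Module.nontrivial_of_finrank_pos h0
  obtain ⟨t, ht0⟩ := exists_ne (0 : Coh.HH C G 0)
  let s : Γ(G, ⊤) := Sheaf.H.equiv₀ (Coh.toAb G) isTerminalTop t
  have hs0 : s ≠ 0 := fun h => ht0 ((Sheaf.H.equiv₀ (Coh.toAb G) isTerminalTop).injective
    (h.trans (map_zero _).symm))
  have hloc : (locus s : Set C) ≠ Set.univ := fun h => by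
    have hf := locus_eq_top_iff.1 (Opens.ext h)
    have h1 : d = 1 := Units.ext (hc.trans ((PicGrp.cl_eq_cl_iff _ _).2 (InvUfdLib.nonempty_iso_of_frame hf)))
    rw [h1, dgr_one hdim] at hd
    exact lt_irrefl _ hd
  haveI := LocallyOfFiniteType.jacobsonSpace (C ↘ Spec (CommRingCat.of k))
  obtain ⟨p, hp⟩ := (Set.ne_univ_iff_exists_notMem _).1 hloc
  obtain ⟨y, hy, hyc⟩ := nonempty_inter_closedPoints (Z := (locus s : Set C)ᶜ) ⟨p, hp⟩
    (locus s).isOpen.isClosed_compl.isLocallyClosed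
  let x : Pt k C := ⟨pointOfClosedPoint (C ↘ Spec (CommRingCat.of k)) y (mem_closedPoints_iff.1 hyc),
    pointOfClosedPoint_comp _ _ _⟩
  have hx : x.pt ∉ locus s := by
    show pointOfClosedPoint _ y _ _ ∉ locus s
    rw [pointOfClosedPoint_apply]
    exact hy
  refine ⟨x, ?_⟩
  obtain ⟨U, hxU, e, he⟩ := InvX.exists_frame hG x.pt
  obtain ⟨g, hg⟩ := he.exists_coord le_rfl (AModX.res G (le_top : U ≤ ⊤) s)
  rw [AModX.res_self] at hg
  have hgx : C.presheaf.germ U x.pt hxU g ∈ IsLocalRing.maximalIdeal (C.presheaf.stalk x.pt) := by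
    intro hu
    refine hx ?_
    have h1 : x.pt ∈ locus s ⊓ U := by
      rw [locus_eq_basicOpen he hg]
      exact (C.mem_basicOpen g x.pt hxU).2 hu
    exact h1.1
  have htin : GermIn G x.pt t := by
    unfold GermIn
    rw [show G.presheaf.germ ⊤ x.pt trivial (Sheaf.H.equiv₀ (Coh.toAb G) isTerminalTop t : Γ(G, ⊤)) =
        G.presheaf.germ U x.pt hxU (g • e) by
      rw [← hg]; exact (G.presheaf.germ_res_apply (homOfLE le_top) x.pt hxU s).symm,
      show G.presheaf.germ U x.pt hxU (g • e) = _ from QCoh.germ_smul' G hxU g e]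
    exact Submodule.smul_mem_smul hgx Submodule.mem_top
  obtain ⟨⟨-, -⟩, hall, hex, -⟩ := twist_module hdim x hG
  rw [Units.val_mul, O_inv_val, hc, ← H23.PicMul.cl_tensor, hh_cl, x.ker_eq]
  show 0 < Module.finrank k (Coh.HH C ((DCoh.tensorBi.obj G).obj (CurvePoint.ptMod x.pt x.isClosed)) 0)
  by_cases h : ∀ t', GermIn G x.pt t'
  · rw [hall h]; exact h0
  · push Not at h
    obtain ⟨t', ht'⟩ := h
    have h2 : Module.finrank k (Coh.HH C ((DCoh.tensorBi.obj G).obj (CurvePoint.ptMod x.pt x.isClosed)) 0) + 1 =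
        Module.finrank k (Coh.HH C G 0) := hex ⟨t', ht'⟩
    by_contra hm0
    have h3 : Module.finrank k (Coh.HH C G 0) = 1 := by
      rw [← h2]
      simpa using Nat.eq_zero_of_not_pos hm0
    haveI := S0002.result k C G (CurveStable.coh_of_free k
      (CurveStable.isFinLocFree_of_rank (InvEnd.isFinLocFreeOfRank_one hG))) 0
    obtain ⟨a, ha⟩ := (finrank_eq_one_iff_of_nonzero' t ht0).1 h3 t'
    refine ht' ?_
    unfold GermIn
    rw [← ha, CurveCohLib.germ_h0Equiv_smul]
    exact Submodule.smul_mem _ _ htin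

/-- Effective classes are exactly those with a section. -/
theorem exists_eq_Dv [IsAlgClosed k] : ∀ (r : ℕ) (d : LB C), dgr k (d : PicF.Cl C) = r →
    0 < hh k 0 (d : PicF.Cl C) → ∃ x : Fin r → Pt k C, d = Dv hdim x
  | 0, d, hd, h0 => ⟨Fin.elim0, by rw [Dv_zero, eq_one_of_dgr_zero hdim d (by exact_mod_cast hd) h0]⟩
  | r + 1, d, hd, h0 => by
    obtain ⟨a, ha⟩ := exists_sub_pt hdim d (by rw [hd]; omega) h0
    obtain ⟨x, hx⟩ := exists_eq_Dv r (d * (O hdim a)⁻¹) (by
      rw [dgr_mul hdim, dgr_inv hdim, dgr_O hdim, hd]; push_cast; ring) ha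
    exact ⟨Fin.cons a x, by rw [Dv_cons, ← hx, mul_comm, inv_mul_cancel_right]⟩

variable [GeometricallyConnected (C ↘ Spec (CommRingCat.of k))]

theorem exists_eq_Dv_iff [IsAlgClosed k] (r : ℕ) (d : LB C) (hd : dgr k (d : PicF.Cl C) = r) :
    (∃ x : Fin r → Pt k C, d = Dv hdim x) ↔ 0 < hh k 0 (d : PicF.Cl C) :=
  ⟨fun ⟨x, hx⟩ => hx ▸ hh_Dv_pos hdim x, exists_eq_Dv hdim r d hd⟩

/-- All translates by effective divisors of degree `r` have sections only if the class has, in degree at most `g-1-r`. -/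
theorem forall_hh_pos_iff [IsAlgClosed k] (r : ℕ) (L : LB C)
    (hL : dgr k (L : PicF.Cl C) + r + 1 ≤ Curv2.genus k C) :
    (∀ x : Fin r → Pt k C, 0 < hh k 0 ((L * Dv hdim x : LB C) : PicF.Cl C)) ↔ 0 < hh k 0 (L : PicF.Cl C) := by
  refine ⟨fun h => ?_, fun h x => h.trans_le (hh_le_mul_Dv hdim x L)⟩
  by_contra h0
  have hr := rr (k := k) hdim L
  rw [serre hdim] at hr
  obtain ⟨x, hx⟩ := exists_points hdim (exists_pt (k := k) hdim) (can k hdim * L⁻¹) (m := r) (by omega)
  have hr' := rr (k := k) hdim (L * Dv hdim x)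
  rw [serre hdim, dgr_mul hdim, dgr_Dv hdim, show can k hdim * (L * Dv hdim x)⁻¹ =
    can k hdim * L⁻¹ * (∏ j, O hdim (x j))⁻¹ by rw [mul_inv, mul_assoc]; rfl] at hr'
  have := h x
  omega

end Groth.Agent.JacTheta
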