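import Groth.Agent.JacTheta.RelDim
import Groth.Agent.PicFRel.CurveDiv
import Groth.Agent.Lib.AVAmple
import Groth.Agent.S8914
import Groth.Agent.SurfInt.Ideal
import Groth.Prelude.Def_Pic

/-! Graphs of morphisms to a relative curve as effective Cartier divisors, and their restrictions. -/

set_option autoImplicit false
set_option linter.unusedSectionVars false
set_option linter.style.haveILetI false
set_option linter.overlappingInstances false
set_option backward.isDefEq.respectTransparency false
set_option backward.isDefEq.respectTransparency.types false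

universe u

open CategoryTheory CategoryTheory.Limits AlgebraicGeometry TopologicalSpace

noncomputable section

namespace Groth.Agent.JacTheta

variable {X S : Scheme.{u}} (f : X ⟶ S) {T T' : Over S}

/-- The graph section of a morphism to `X`. -/
def gr (γ : T ⟶ Over.mk f) : T.left ⟶ PicF.XT f T :=
  pullback.lift γ.left (𝟙 T.left) ((Over.w γ).trans (Category.id_comp _).symm)

theorem gr_fst (γ : T ⟶ Over.mk f) : gr f γ ≫ pullback.fst f T.hom = γ.left := pullback.lift_fst _ _ _

theorem gr_snd (γ : T ⟶ Over.mk f) : gr f γ ≫ PicF.XTproj f T = 𝟙 T.left := pullback.lift_snd _ _ _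

theorem XTmap_fst (g : T' ⟶ T) : PicF.XTmap f g ≫ pullback.fst f T.hom = pullback.fst f T'.hom :=
  (pullback.lift_fst _ _ _).trans (Category.comp_id _)

theorem XTmap_proj (g : T' ⟶ T) : PicF.XTmap f g ≫ PicF.XTproj f T = PicF.XTproj f T' ≫ g.left :=
  pullback.lift_snd _ _ _

theorem gr_comp (g : T' ⟶ T) (γ : T ⟶ Over.mk f) :
    gr f (g ≫ γ) ≫ PicF.XTmap f g = g.left ≫ gr f γ := by
  apply pullback.hom_ext
  · rw [Category.assoc, Category.assoc, XTmap_fst, gr_fst, gr_fst]
    rfl
  · rw [Category.assoc, Category.assoc]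
    erw [XTmap_proj, gr_snd, reassoc_of% (gr_snd f (g ≫ γ)), Category.comp_id]

theorem isPullback_XTmap (g : T' ⟶ T) :
    IsPullback (PicF.XTmap f g) (PicF.XTproj f T') (PicF.XTproj f T) g.left := by
  refine IsPullback.of_right ?_ (XTmap_proj f g) (IsPullback.of_hasPullback f T.hom)
  rw [XTmap_fst, Over.w g]
  exact IsPullback.of_hasPullback f T'.hom

theorem isPullback_gr (g : T' ⟶ T) (γ : T ⟶ Over.mk f) :
    IsPullback g.left (gr f (g ≫ γ)) (gr f γ) (PicF.XTmap f g) := by
  refine IsPullback.of_bot ?_ (gr_comp f g γ).symm (isPullback_XTmap f g)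
  rw [gr_snd, gr_snd]
  exact IsPullback.of_vert_isIso ⟨by simp⟩

/-- Preimages of graphs are graphs. -/
theorem preimage_range_gr (g : T' ⟶ T) (γ : T ⟶ Over.mk f) :
    PicF.XTmap f g ⁻¹' Set.range (gr f γ) = Set.range (gr f (g ≫ γ)) := by
  ext c
  constructor
  · rintro ⟨t, ht⟩
    obtain ⟨z, -, hz⟩ := Scheme.Pullback.exists_preimage_pullback (f := gr f γ) (g := PicF.XTmap f g) t c ht
    refine ⟨(isPullback_gr f g γ).isoPullback.inv z, ?_⟩
    rw [← Scheme.Hom.comp_apply, IsPullback.isoPullback_inv_snd]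
    exact hz
  · rintro ⟨t, rfl⟩
    refine ⟨g.left t, ?_⟩
    rw [← Scheme.Hom.comp_apply, ← gr_comp]
    rfl

instance isClosedImmersion_gr [IsSeparated f] (γ : T ⟶ Over.mk f) : IsClosedImmersion (gr f γ) := by
  haveI : IsSeparated (PicF.XTproj f T) := inferInstance
  haveI : IsClosedImmersion (gr f γ ≫ PicF.XTproj f T) := by rw [gr_snd]; infer_instance
  exact IsClosedImmersion.of_comp (gr f γ) (PicF.XTproj f T)

theorem support_gr [IsSeparated f] (γ : T ⟶ Over.mk f) :
    ((gr f γ).ker.support : Set ↥(PicF.XT f T)) = Set.range (gr f γ) := by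
  rw [Scheme.Hom.support_ker, (gr f γ).isClosedEmbedding.isClosed_range.closure_eq]

theorem isEffCartier_gr [IsSeparated f] [SmoothOfRelativeDimension 1 f] (γ : T ⟶ Over.mk f) :
    BlowUp.IsEffCartierIdeal (gr f γ).ker := by
  haveI : SmoothOfRelativeDimension 1 (PicF.XTproj f T) :=
    haveI := smoothOfRelativeDimension_isStableUnderBaseChange (n := 1)
    MorphismProperty.pullback_snd (P := @SmoothOfRelativeDimension 1) _ _ ‹_›
  refine (PicFRel.CurveDiv.of_isFinLocFree (f := PicF.XTproj f T) (I := (gr f γ).ker) ?_).1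
  haveI : IsIso ((gr f γ).toImage) := inferInstance
  have e : (gr f γ).ker.subschemeι ≫ PicF.XTproj f T = inv ((gr f γ).toImage) := by
    rw [← cancel_epi (gr f γ).toImage, IsIso.hom_inv_id, ← Category.assoc,
      show (gr f γ).toImage ≫ (gr f γ).ker.subschemeι = gr f γ from (gr f γ).toImage_imageι, gr_snd]
  rw [e]
  exact ⟨inferInstance, inferInstance, inferInstance⟩

theorem isInvertible_gr [IsSeparated f] [SmoothOfRelativeDimension 1 f] (γ : T ⟶ Over.mk f) :
    PicF.IsInvertible (ClSub.idealMod (gr f γ).ker) :=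
  (S8914.result _).2 (isEffCartier_gr f γ)

open H23.TrivBasic in
/-- The inverse of the ideal of a graph restricts to a module with a section vanishing only on the graph. -/
theorem exists_section_pullback [IsSeparated f] (γ : T ⟶ Over.mk f) (g : T' ⟶ T)
    (hi : PicF.IsInvertible (ClSub.idealMod (gr f γ).ker)) {Λ : (PicF.XT f T).Modules} (hΛ : PicF.IsInvertible Λ)
    (hinv : ClSub.IsInverseOf Λ (ClSub.idealMod (gr f γ).ker)) :
    ∃ s : Γ((Scheme.Modules.pullback (PicF.XTmap f g)).obj Λ, ⊤),
      ∀ c, c ∈ locus s ↔ c ∉ Set.range (gr f (g ≫ γ)) := by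
  obtain ⟨s, hs⟩ := AVAmple.exists_divisor_section (gr f γ).ker ((S8914.result _).1 hi) hΛ hinv
  refine ⟨InvX.pullElt (PicF.XTmap f g) s, fun c => ?_⟩
  rw [locus_pullElt hΛ (PicF.XTmap f g) s, ← preimage_range_gr f g γ]
  show PicF.XTmap f g c ∈ locus s ↔ _
  rw [hs, ← SetLike.mem_coe, support_gr]
  rfl

end Groth.Agent.JacTheta
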