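import Groth.Agent.JacTheta.Effective
import Groth.Agent.JacTheta.Graph
import Groth.Agent.CurveBC.Main
import Groth.Prelude.Def_ModFun2

/-! The geometric fibres of a curve and families of divisors on them. -/

set_option autoImplicit false
set_option linter.unusedSectionVars false
set_option linter.style.haveILetI false
set_option linter.overlappingInstances false
set_option backward.isDefEq.respectTransparency false
set_option backward.isDefEq.respectTransparency.types false

universe u

open CategoryTheory CategoryTheory.Limits AlgebraicGeometry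

noncomputable section

namespace Groth.Agent.JacTheta

open scoped H23.PicMul
open Groth.Agent.H23.TrivBasic

variable {k : Type u} [Field k] {C : Scheme.{u}} [C.Over (Spec (CommRingCat.of k))]
  {Ω : Type u} [Field Ω] (s : Spec (CommRingCat.of Ω) ⟶ Spec (CommRingCat.of k))

variable (C) in
/-- The fibre of the curve over a point with values in a field. -/
abbrev CΩ : Scheme.{u} := PicF.XT (C ↘ Spec (CommRingCat.of k)) (Over.mk s)

instance overCΩ : (CΩ C s).Over (Spec (CommRingCat.of Ω)) :=
  ⟨PicF.XTproj (C ↘ Spec (CommRingCat.of k)) (Over.mk s)⟩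

theorem isPullback_CΩ [Algebra k Ω] (hs : Spec.map (CommRingCat.ofHom (algebraMap k Ω)) = s) :
    IsPullback (pullback.fst (C ↘ Spec (CommRingCat.of k)) s) (CΩ C s ↘ Spec (CommRingCat.of Ω))
      (C ↘ Spec (CommRingCat.of k)) (Spec.map (CommRingCat.ofHom (algebraMap k Ω))) := by
  rw [hs]
  exact IsPullback.of_hasPullback _ _

instance isProper_CΩ [IsProper (C ↘ Spec (CommRingCat.of k))] : IsProper (CΩ C s ↘ Spec (CommRingCat.of Ω)) :=
  inferInstanceAs (IsProper (pullback.snd (C ↘ Spec (CommRingCat.of k)) s))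

instance smooth_CΩ [Smooth (C ↘ Spec (CommRingCat.of k))] : Smooth (CΩ C s ↘ Spec (CommRingCat.of Ω)) :=
  inferInstanceAs (Smooth (pullback.snd (C ↘ Spec (CommRingCat.of k)) s))

instance geometricallyConnected_CΩ [GeometricallyConnected (C ↘ Spec (CommRingCat.of k))] :
    GeometricallyConnected (CΩ C s ↘ Spec (CommRingCat.of Ω)) :=
  inferInstanceAs (GeometricallyConnected (pullback.snd (C ↘ Spec (CommRingCat.of k)) s))

variable [IsProper (C ↘ Spec (CommRingCat.of k))] [Smooth (C ↘ Spec (CommRingCat.of k))]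
  [GeometricallyConnected (C ↘ Spec (CommRingCat.of k))]

theorem isIntegral_CΩ : IsIntegral (CΩ C s) :=
  CurveStable.isIntegral_of_geometricallyConnected Ω (X := CΩ C s)

theorem dim_CΩ (hdim : topologicalKrullDim C = 1) : topologicalKrullDim (CΩ C s) = 1 := by
  letI : Algebra k Ω := (Spec.preimage s).hom.toAlgebra
  exact CurveBC.topologicalKrullDim_eq k Ω _ (isPullback_CΩ (C := C) s (Spec.map_preimage s)) hdim

theorem genus_CΩ : Curv2.genus Ω (CΩ C s) = Curv2.genus k C := by
  letI : Algebra k Ω := (Spec.preimage s).hom.toAlgebra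
  haveI := CurveCohLib.isNoetherian_of_proper (k := k) (X := C)
  exact CurveBC.genus_eq k Ω _ (isPullback_CΩ (C := C) s (Spec.map_preimage s))

omit [IsProper (C ↘ Spec (CommRingCat.of k))] [Smooth (C ↘ Spec (CommRingCat.of k))]
  [GeometricallyConnected (C ↘ Spec (CommRingCat.of k))] in
theorem XTmap_id {T : Over (Spec (CommRingCat.of k))} (g : T ⟶ T) (hg : g.left = 𝟙 T.left) :
    PicF.XTmap (C ↘ Spec (CommRingCat.of k)) g = 𝟙 _ := by
  apply pullback.hom_ext
  · exact (XTmap_fst _ g).trans (Category.id_comp _).symm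
  · refine (XTmap_proj _ g).trans ?_
    rw [hg, Category.comp_id]
    exact (Category.id_comp _).symm

omit [IsProper (C ↘ Spec (CommRingCat.of k))] [Smooth (C ↘ Spec (CommRingCat.of k))]
  [GeometricallyConnected (C ↘ Spec (CommRingCat.of k))] in
/-- The degree condition of a family at a point with values in an algebraically closed field. -/
theorem deg_fibre [IsAlgClosed Ω] {d : ℤ} {T : Over (Spec (CommRingCat.of k))}
    {E : (PicF.XT (C ↘ Spec (CommRingCat.of k)) T).Modules}
    (hE : (ModFun.PicDeg (C ↘ Spec (CommRingCat.of k)) d).ok T E) (g : Over.mk s ⟶ T) :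
    Curv2.deg Ω (CΩ C s) ((Scheme.Modules.pullback (PicF.XTmap (C ↘ Spec (CommRingCat.of k)) g)).obj E) 1 = d := by
  suffices key : ∀ (t : Spec (CommRingCat.of Ω) ⟶ T.left) (s' : Spec (CommRingCat.of Ω) ⟶ Spec (CommRingCat.of k))
      (hs : t ≫ T.hom = s'),
      Curv2.deg Ω (CΩ C s') ((Scheme.Modules.pullback (PicF.XTmap (C ↘ Spec (CommRingCat.of k))
        (Over.homMk t hs : Over.mk s' ⟶ T))).obj E) 1 = d by
    rw [show g = Over.homMk g.left (Over.w g) from Over.OverMorphism.ext rfl]
    exact key g.left s (Over.w g)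
  intro t s' hs
  subst hs
  exact hE.2 Ω t

/-- A module with a section vanishing exactly at one rational point is a positive multiple of it. -/
theorem one_le_dgr_of_section (hdim : topologicalKrullDim C = 1) [IsIntegral C] (c : LB C) {G : C.Modules}
    (hc : (c : PicF.Cl C) = PicF.cl G) (x : Pt k C) (s : Γ(G, ⊤)) (hs : ∀ q, q ∈ locus s ↔ q ≠ x.pt) :
    s ≠ 0 ∧ 1 ≤ dgr k (c : PicF.Cl C) := by
  have hs0 : s ≠ 0 := fun h0 => by
    have hη : genericPoint C ≠ x.pt := fun h => CurveEmbed.genericPoint_not_closed hdim (h ▸ x.isClosed)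
    obtain ⟨W, hW, hf⟩ := mem_locus_iff.1 ((hs _).2 hη)
    rw [h0, map_zero] at hf
    have h01 := hf.coord_unique le_rfl (r := (0 : Γ(C, W))) (r' := 1) (by simp)
    haveI : Nonempty W := ⟨⟨_, hW⟩⟩
    exact zero_ne_one h01
  refine ⟨hs0, ?_⟩
  have h := hh_pos_of_vanish hdim c hc s hs0 x fun h => (hs x.pt).1 h rfl
  by_contra hlt
  have := hh_eq_zero_of_dgr_neg (k := k) hdim (c * (O hdim x)⁻¹) (by rw [dgr_mul hdim, dgr_inv hdim, dgr_O hdim]; omega)
  omega

/-- A product of classes, each with a section vanishing only at a point, of degree the number of points. -/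
theorem prod_eq_Dv (hdim : topologicalKrullDim C = 1) [IsIntegral C] {n : ℕ} (x : Fin n → Pt k C)
    (e : Fin n → LB C) (hd : dgr k ((∏ i, e i : LB C) : PicF.Cl C) = n)
    (he : ∀ i, ∃ (G : C.Modules) (s : Γ(G, ⊤)), (e i : PicF.Cl C) = PicF.cl G ∧ ∀ q, q ∈ locus s ↔ q ≠ (x i).pt) :
    (∏ i, e i) = Dv hdim x := by
  have h1 : ∀ i, 1 ≤ dgr k (e i : PicF.Cl C) := fun i => by
    obtain ⟨G, s, hc, hs⟩ := he i
    exact (one_le_dgr_of_section hdim (e i) hc (x i) s hs).2
  rw [dgr_prod hdim] at hd
  have h2 : ∀ i, dgr k (e i : PicF.Cl C) = 1 := fun i => by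
    have hsum : ∑ j, (dgr k (e j : PicF.Cl C) - 1) = 0 := by
      simp [Finset.sum_sub_distrib, hd]
    have := (Finset.sum_eq_zero_iff_of_nonneg fun j _ => sub_nonneg.2 (h1 j)).1 hsum i (Finset.mem_univ i)
    omega
  refine Finset.prod_congr rfl fun i _ => ?_
  obtain ⟨G, s, hc, hs⟩ := he i
  exact eq_O_of_section hdim (e i) (h2 i) hc s (one_le_dgr_of_section hdim (e i) hc (x i) s hs).1 (x i)
    fun h => (hs (x i).pt).1 h rfl

end Groth.Agent.JacTheta
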