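import Mathlib.AlgebraicGeometry.ResidueField
import Mathlib.FieldTheory.IsAlgClosed.AlgebraicClosure

/-! Geometric points over points. -/

universe u

open CategoryTheory AlgebraicGeometry

namespace Groth.Agent.JacTheta

theorem geomPoint_aux (X : Scheme.{u}) (p : X) (Ω : Type u) [Field Ω] (φ : X.residueField p ⟶ CommRingCat.of Ω)
    (x : Spec (CommRingCat.of Ω)) : (Spec.map φ ≫ X.fromSpecResidueField p) x = p :=
  (Scheme.Hom.comp_apply _ _ x).trans (X.fromSpecResidueField_apply p _)

/-- Every point lifts to a geometric point. -/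
theorem exists_geometric_point (X : Scheme.{u}) (p : X) :
    ∃ (Ω : Type u) (_ : Field Ω) (_ : IsAlgClosed Ω) (t : Spec (CommRingCat.of Ω) ⟶ X),
      ∀ x, t x = p :=
  ⟨AlgebraicClosure (X.residueField p), inferInstance, inferInstance, _,
    geomPoint_aux X p _ (CommRingCat.ofHom (algebraMap (X.residueField p) _))⟩

end Groth.Agent.JacTheta
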