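import Groth.Prelude.Def_Jac
import Groth.Agent.JacTheta.Curve
import Groth.Agent.CurveBC.Coh
import Groth.Agent.H23.KLBasic
import Groth.Agent.ZeroSchX.Basic
import Groth.Agent.Lib.CurveDualPrep

/-! Rational points of a Jacobian as degree zero classes of the curve. -/

set_option autoImplicit false
set_option linter.unusedSectionVars false
set_option linter.style.haveILetI false
set_option linter.overlappingInstances false

universe u

open CategoryTheory CategoryTheory.Limits AlgebraicGeometry MonoidalCategory CartesianMonoidalCategory MonObj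

noncomputable section

namespace Groth.Agent.JacTheta

open scoped H23.PicMul

variable (k : Type u) [Field k] (C : Scheme.{u}) [C.Over (Spec (CommRingCat.of k))]

/-- The one-point test scheme. -/
abbrev Rp : Over (Spec (CommRingCat.of k)) := 𝟙_ _

/-- The first projection of the curve times a point. -/
abbrev prFst : PicF.XT (C ↘ Spec (CommRingCat.of k)) (Rp k) ⟶ C :=
  pullback.fst (C ↘ Spec (CommRingCat.of k)) (Rp k).hom

instance isIso_prFst : IsIso (prFst k C) := by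
  show IsIso (pullback.fst (C ↘ Spec (CommRingCat.of k)) (𝟙 _))
  infer_instance

variable {k C}

/-- The family over the point of a class. -/
def fam (d : LB C) : (PicF.XT (C ↘ Spec (CommRingCat.of k)) (Rp k)).Modules :=
  (Scheme.Modules.pullback (prFst k C)).obj d.exists_rep.choose

theorem cl_fam (d : LB C) :
    PicF.cl (fam (k := k) d) = (LB.pull (prFst k C) d : PicF.Cl _) := by
  rw [LB.pull_val, d.exists_rep.choose_spec.2]
  rfl

theorem pull_prFst_injective : Function.Injective (LB.pull (prFst k C)) := fun c d h => by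
  have e := congrArg (fun z : LB _ => PicF.pullCl (inv (prFst k C)) (z : PicF.Cl _)) h
  simp only [LB.pull_val, PicClLib.pullCl_comp, IsIso.inv_hom_id, PicClLib.pullCl_id] at e
  exact Units.ext e

theorem isInvertible_fam (d : LB C) : PicF.IsInvertible (fam (k := k) d) :=
  LB.isInvertible (cl_fam d).symm

variable [IsIntegral C] [IsProper (C ↘ Spec (CommRingCat.of k))] [Smooth (C ↘ Spec (CommRingCat.of k))]

/-- Degrees of constant families at geometric points. -/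
theorem deg_pullback_fst {Ω : Type u} [Field Ω] (s : Spec (CommRingCat.of Ω) ⟶ Spec (CommRingCat.of k))
    (M : C.Modules) (hM : PicF.IsInvertible M)
    (E : (PicF.XT (C ↘ Spec (CommRingCat.of k)) (Over.mk s)).Modules)
    (hE : PicF.cl E = PicF.pullCl (pullback.fst (C ↘ Spec (CommRingCat.of k)) s) (PicF.cl M)) :
    (letI : (PicF.XT (C ↘ Spec (CommRingCat.of k)) (Over.mk s)).Over (Spec (CommRingCat.of Ω)) :=
      ⟨PicF.XTproj (C ↘ Spec (CommRingCat.of k)) (Over.mk s)⟩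
    Curv2.deg Ω (PicF.XT (C ↘ Spec (CommRingCat.of k)) (Over.mk s)) E 1) = Curv2.deg k C M 1 := by
  letI : (PicF.XT (C ↘ Spec (CommRingCat.of k)) (Over.mk s)).Over (Spec (CommRingCat.of Ω)) :=
    ⟨PicF.XTproj (C ↘ Spec (CommRingCat.of k)) (Over.mk s)⟩
  letI : Algebra k Ω := (Spec.preimage s).hom.toAlgebra
  haveI := CurveCohLib.isNoetherian_of_proper (k := k) (X := C)
  have hs : Spec.map (CommRingCat.ofHom (algebraMap k Ω)) = s := Spec.map_preimage s
  have hpb : IsPullback (pullback.fst (C ↘ Spec (CommRingCat.of k)) s)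
      ((PicF.XT (C ↘ Spec (CommRingCat.of k)) (Over.mk s)) ↘ Spec (CommRingCat.of Ω))
      (C ↘ Spec (CommRingCat.of k)) (Spec.map (CommRingCat.ofHom (algebraMap k Ω))) := by
    rw [hs]
    exact IsPullback.of_hasPullback _ _
  obtain ⟨e⟩ := (PicGrp.cl_eq_cl_iff E ((Scheme.Modules.pullback (pullback.fst (C ↘ Spec (CommRingCat.of k)) s)).obj M)).1 hE
  unfold Curv2.deg
  rw [CurveCohLib.euler_congr (k := Ω) e]
  exact CurveBC.deg_eq k Ω _ hpb M (ZeroSchX.isQCoh_inv hM) 1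

theorem ok_of_cl (d : LB C) (hd : dgr k (d : PicF.Cl C) = 0)
    {E : (PicF.XT (C ↘ Spec (CommRingCat.of k)) (Rp k)).Modules}
    (hE : PicF.cl E = (LB.pull (prFst k C) d : PicF.Cl _)) :
    (ModFun.PicDeg (C ↘ Spec (CommRingCat.of k)) 0).ok (Rp k) E := by
  refine ⟨⟨trivial, InvEnd.isFinLocFreeOfRank_one (LB.isInvertible hE.symm)⟩, ?_⟩
  intro Ω _ _ t
  obtain ⟨M, hM, hdM⟩ := d.exists_rep
  rw [hdM, dgr_cl] at hd
  refine (deg_pullback_fst _ M hM _ ?_).trans hd
  show PicF.pullCl (PicF.XTmap _ _) (PicF.cl E) = _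
  rw [hE, LB.pull_val, hdM, PicClLib.pullCl_comp]
  congr 1
  exact (pullback.lift_fst _ _ _).trans (Category.comp_id _)

theorem ok_fam (d : LB C) (hd : dgr k (d : PicF.Cl C) = 0) :
    (ModFun.PicDeg (C ↘ Spec (CommRingCat.of k)) 0).ok (Rp k) (fam d) :=
  ok_of_cl d hd (cl_fam d)

theorem exists_class {E : (PicF.XT (C ↘ Spec (CommRingCat.of k)) (Rp k)).Modules} [IsAlgClosed k]
    (hE : (ModFun.PicDeg (C ↘ Spec (CommRingCat.of k)) 0).ok (Rp k) E) :
    ∃ d : LB C, dgr k (d : PicF.Cl C) = 0 ∧ PicF.cl E = (LB.pull (prFst k C) d : PicF.Cl _) := by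
  let d : LB C := LB.pull (inv (prFst k C)) (lb E (CurveDuality.isInvertible_of_rank_one hE.1.2))
  have hd : PicF.cl E = (LB.pull (prFst k C) d : PicF.Cl _) := by
    rw [LB.pull_val, LB.pull_val, lb_val, PicClLib.pullCl_comp, IsIso.hom_inv_id, PicClLib.pullCl_id]
  refine ⟨d, ?_, hd⟩
  obtain ⟨M, hM, hdM⟩ := d.exists_rep
  have h := hE.2 k (𝟙 _)
  rw [hdM, dgr_cl]
  refine Eq.trans ?_ h
  symm
  refine deg_pullback_fst _ M hM _ ?_
  show PicF.pullCl (PicF.XTmap _ _) (PicF.cl E) = _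
  rw [hd, LB.pull_val, hdM, PicClLib.pullCl_comp]
  congr 1
  exact (pullback.lift_fst _ _ _).trans (Category.comp_id _)

variable {J : Over (Spec (CommRingCat.of k))}
  (ψ : (ModFun.PicDeg (C ↘ Spec (CommRingCat.of k)) 0).Hom ⊤ J)

theorem app_congr {E E' : (PicF.XT (C ↘ Spec (CommRingCat.of k)) (Rp k)).Modules}
    (hT : (⊤ : ObjectProperty (Over (Spec (CommRingCat.of k)))) (Rp k))
    (hE : (ModFun.PicDeg (C ↘ Spec (CommRingCat.of k)) 0).ok (Rp k) E)
    (hE' : (ModFun.PicDeg (C ↘ Spec (CommRingCat.of k)) 0).ok (Rp k) E')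
    (h : PicF.cl E = PicF.cl E') : ψ.app (Rp k) E hT hE = ψ.app (Rp k) E' hT hE' := by
  refine ψ.resp E E' hT hE hE' ⟨Coh.structureModule _, CurveDeg.isInvertible_structureModule, ?_⟩
  apply (PicGrp.cl_eq_cl_iff _ _).1
  have h1 : PicF.cl ((Scheme.Modules.pullback (PicF.XTproj (C ↘ Spec (CommRingCat.of k)) (Rp k))).obj
      (Coh.structureModule _)) = 1 := H23.PicMul.pullCl_one _
  rw [H23.PicMul.cl_tensor, h1, _root_.mul_one, h]

theorem cl_eq_of_r {E E' : (PicF.XT (C ↘ Spec (CommRingCat.of k)) (Rp k)).Modules}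
    (h : (ModFun.PicDeg (C ↘ Spec (CommRingCat.of k)) 0).r (Rp k) E E') : PicF.cl E = PicF.cl E' := by
  obtain ⟨M, hM, ⟨e⟩⟩ := h
  rw [(PicGrp.cl_eq_cl_iff E' _).2 ⟨e⟩, H23.PicMul.cl_tensor]
  haveI : Subsingleton (Rp k).left := inferInstanceAs (Subsingleton (PrimeSpectrum k))
  haveI : Nonempty (Rp k).left := inferInstanceAs (Nonempty (PrimeSpectrum k))
  have h1 : PicF.cl ((Scheme.Modules.pullback (PicF.XTproj (C ↘ Spec (CommRingCat.of k)) (Rp k))).obj M) = 1 := by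
    show PicF.pullCl _ (PicF.cl M) = _
    rw [H23.KLBasic.trivial_of_subsingleton hM, H23.PicMul.pullCl_one]
  rw [h1, _root_.mul_one]

variable [GrpObj J]

/-- The rational point of a degree zero class (the unit in other degrees). -/
def ptJ (d : LB C) : Rp k ⟶ J :=
  open scoped Classical in
  if h : dgr k (d : PicF.Cl C) = 0 then ψ.app (Rp k) (fam d) trivial (ok_fam d h) else 1

theorem app_eq_ptJ {E : (PicF.XT (C ↘ Spec (CommRingCat.of k)) (Rp k)).Modules} (d : LB C)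
    (hd : dgr k (d : PicF.Cl C) = 0) (hE : PicF.cl E = (LB.pull (prFst k C) d : PicF.Cl _))
    (hT : (⊤ : ObjectProperty (Over (Spec (CommRingCat.of k)))) (Rp k))
    (hok : (ModFun.PicDeg (C ↘ Spec (CommRingCat.of k)) 0).ok (Rp k) E) :
    ψ.app (Rp k) E hT hok = ptJ ψ d := by
  rw [ptJ, dif_pos hd]
  exact app_congr ψ hT hok _ (hE.trans (cl_fam d).symm)

variable {ψ} (hdim : topologicalKrullDim C = 1)

include hdim

theorem ptJ_mul (hJ : Jac.IsJacobian (C ↘ Spec (CommRingCat.of k)) ⊤ J ψ) {d e : LB C}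
    (hd : dgr k (d : PicF.Cl C) = 0) (he : dgr k (e : PicF.Cl C) = 0) :
    ptJ ψ (d * e) = ptJ ψ d * ptJ ψ e := by
  have hde : dgr k ((d * e : LB C) : PicF.Cl C) = 0 := by rw [dgr_mul hdim, hd, he, add_zero]
  rw [ptJ, ptJ, ptJ, dif_pos hde, dif_pos hd, dif_pos he]
  refine hJ.mul (Rp k) trivial _ _ _ _ _ _ ((PicGrp.cl_eq_cl_iff _ _).1 ?_)
  rw [H23.PicMul.cl_tensor, cl_fam, cl_fam, cl_fam, map_mul, Units.val_mul]

theorem ptJ_one (hJ : Jac.IsJacobian (C ↘ Spec (CommRingCat.of k)) ⊤ J ψ) : ptJ ψ (1 : LB C) = 1 := by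
  have h := ptJ_mul hdim hJ (dgr_one (k := k) hdim) (dgr_one (k := k) hdim)
  rw [_root_.mul_one] at h
  exact left_eq_mul.mp h

theorem ptJ_inv (hJ : Jac.IsJacobian (C ↘ Spec (CommRingCat.of k)) ⊤ J ψ) {d : LB C}
    (hd : dgr k (d : PicF.Cl C) = 0) : ptJ ψ d⁻¹ = (ptJ ψ d)⁻¹ := by
  refine eq_inv_of_mul_eq_one_left ?_
  rw [← ptJ_mul hdim hJ (by rw [dgr_inv hdim, hd, neg_zero]) hd, inv_mul_cancel, ptJ_one hdim hJ]

theorem ptJ_prod (hJ : Jac.IsJacobian (C ↘ Spec (CommRingCat.of k)) ⊤ J ψ) (l : List (LB C))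
    (hl : ∀ d ∈ l, dgr k (d : PicF.Cl C) = 0) :
    dgr k (l.prod : PicF.Cl C) = 0 ∧ (l.map (ptJ ψ)).prod = ptJ ψ l.prod := by
  induction l with
  | nil => exact ⟨by rw [List.prod_nil]; exact dgr_one hdim, by
      rw [List.map_nil, List.prod_nil, List.prod_nil, ptJ_one hdim hJ]⟩
  | cons a l ih =>
    obtain ⟨h1, h2⟩ := ih fun d hd => hl d (List.mem_cons_of_mem _ hd)
    have ha := hl a (List.mem_cons_self ..)
    refine ⟨by rw [List.prod_cons, dgr_mul hdim, ha, h1, add_zero], ?_⟩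
    rw [List.map_cons, List.prod_cons, List.prod_cons, h2, ptJ_mul hdim hJ ha h1]

omit hdim in
theorem ptJ_inj [IsAlgClosed k] (hJ : Jac.IsJacobian (C ↘ Spec (CommRingCat.of k)) ⊤ J ψ) {d e : LB C}
    (hd : dgr k (d : PicF.Cl C) = 0) (he : dgr k (e : PicF.Cl C) = 0) (h : ptJ ψ d = ptJ ψ e) : d = e := by
  rw [ptJ, ptJ, dif_pos hd, dif_pos he] at h
  have h1 := cl_eq_of_r ((hJ.coarse.2.2 k (𝟙 _) trivial).2 (fam d) (fam e) (ok_fam d hd) (ok_fam e he) h)
  rw [cl_fam, cl_fam] at h1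
  exact pull_prFst_injective (Units.ext h1)

omit hdim in
theorem ptJ_surj [IsAlgClosed k] (hJ : Jac.IsJacobian (C ↘ Spec (CommRingCat.of k)) ⊤ J ψ) (a : Rp k ⟶ J) :
    ∃ d : LB C, dgr k (d : PicF.Cl C) = 0 ∧ ptJ ψ d = a := by
  obtain ⟨E, hE, rfl⟩ := (hJ.coarse.2.2 k (𝟙 _) trivial).1 a
  obtain ⟨d, hd, he⟩ := exists_class hE
  exact ⟨d, hd, (app_eq_ptJ ψ d hd he trivial hE).symm⟩

end Groth.Agent.JacTheta
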