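import Groth.Agent.AlgSpDec.SmoothLocDim
import Groth.Agent.H23.TopDim
import Groth.Agent.CurveEmbed.Equiv
import Groth.Prelude.Def_CurvBase

/-! A smooth irreducible curve is smooth of relative dimension one. -/

set_option autoImplicit false
set_option linter.unusedSectionVars false
set_option linter.style.haveILetI false
set_option linter.overlappingInstances false
set_option backward.isDefEq.respectTransparency false

universe u

open CategoryTheory CategoryTheory.Limits AlgebraicGeometry TopologicalSpace

namespace Groth.Agent.JacTheta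

theorem localDim_eq_one_of_isClosed {X : Type u} [TopologicalSpace X] [T0Space X] [QuasiSober X]
    [IrreducibleSpace X] (hdim : topologicalKrullDim X = 1) {y : X} (hy : IsClosed ({y} : Set X))
    (hne : y ≠ genericPoint X) : FlatMor.localDim X y = 1 := by
  refine le_antisymm ((H23.TopDim.localDim_le_dim y).trans hdim.le) ?_
  let a : IrreducibleCloseds X := ⟨{y}, isIrreducible_singleton, hy⟩
  let top : IrreducibleCloseds X := ⟨Set.univ, IrreducibleSpace.isIrreducible_univ X, isClosed_univ⟩
  have hlt : a < top := lt_of_le_of_ne (Set.subset_univ _) fun h => hne (by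
    have h' : ({y} : Set X) = Set.univ := congrArg (fun z : IrreducibleCloseds X => (z : Set X)) h
    exact (Set.mem_singleton_iff.1 (h' ▸ Set.mem_univ (genericPoint X))).symm)
  exact H23.TopDim.length_le_localDim ((RelSeries.singleton _ top).cons a hlt) (x := y) rfl

theorem smoothOfRelativeDimension_one (k : Type u) [Field k] (C : Scheme.{u})
    [C.Over (Spec (CommRingCat.of k))] [IsIntegral C] [Smooth (C ↘ Spec (CommRingCat.of k))]
    (hdim : topologicalKrullDim C = 1) :
    SmoothOfRelativeDimension 1 (C ↘ Spec (CommRingCat.of k)) := by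
  have key : ∀ x : C, ∃ (V : C.Opens), x ∈ V ∧
      SmoothOfRelativeDimension 1 (V.ι ≫ (C ↘ Spec (CommRingCat.of k))) := by
    intro x
    obtain ⟨V, j, v, n, hj, rfl, hn⟩ :=
      AlgSpDec.SmoothLocDim.exists_smoothOfRelativeDimension_nhd (C ↘ Spec (CommRingCat.of k)) x
    haveI := LocallyOfFiniteType.jacobsonSpace (C ↘ Spec (CommRingCat.of k))
    haveI : IsLocallyNoetherian C := LocallyOfFiniteType.isLocallyNoetherian (C ↘ Spec (CommRingCat.of k))
    haveI : IsLocallyNoetherian (Spec (CommRingCat.of k)) := inferInstance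
    obtain ⟨y, ⟨v', hv'⟩, hyc⟩ := nonempty_inter_closedPoints (Z := Set.range j) ⟨_, v, rfl⟩
      j.isOpenEmbedding.isOpen_range.isLocallyClosed
    have hne : y ≠ genericPoint C := fun h =>
      CurveEmbed.genericPoint_not_closed hdim (h ▸ mem_closedPoints_iff.1 hyc)
    have h1 := AlgSpDec.SmoothLocDim.localDim_eq_add (C ↘ Spec (CommRingCat.of k)) y
    rw [localDim_eq_one_of_isClosed hdim (mem_closedPoints_iff.1 hyc) hne] at h1
    have h2 : FlatMor.fibreDimAt (C ↘ Spec (CommRingCat.of k)) y = (n : WithBot ℕ∞) := by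
      rw [← hv', ← AlgSpDec.fibreDimAt_etale_comp j]
      exact Groth.Agent.S2768.result n _ v'
    have h3 : FlatMor.localDim ↥(Spec (CommRingCat.of k)) ((C ↘ Spec (CommRingCat.of k)) y) = 0 := by
      haveI : Subsingleton ↥(Spec (CommRingCat.of k)) := inferInstanceAs (Subsingleton (PrimeSpectrum k))
      refine le_antisymm ((H23.TopDim.localDim_le_dim _).trans ?_) ?_
      · exact topologicalKrullDim_zero_of_discreteTopology _
      · refine le_iInf fun U => ?_
        haveI : Nonempty (U.1 : Set ↥(Spec (CommRingCat.of k))) := ⟨⟨_, U.2⟩⟩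
        haveI : Nonempty (IrreducibleCloseds (U.1 : Set ↥(Spec (CommRingCat.of k)))) :=
          ⟨⟨closure {⟨_, U.2⟩}, isIrreducible_singleton.closure, isClosed_closure⟩⟩
        exact Order.krullDim_nonneg
    rw [h2, h3, zero_add] at h1
    have hn1 : n = 1 := by exact_mod_cast h1.symm
    subst hn1
    refine ⟨j.opensRange, ⟨v, rfl⟩, ?_⟩
    have e : j.opensRange.ι = j.isoOpensRange.inv ≫ j := by simp
    rw [e, Category.assoc]
    exact (MorphismProperty.cancel_left_of_respectsIso (@SmoothOfRelativeDimension 1) _ _).2 hn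
  choose V hV hS using key
  exact (IsZariskiLocalAtSource.iff_of_iSup_eq_top (P := @SmoothOfRelativeDimension 1) V
    (eq_top_iff.2 fun x _ => Opens.mem_iSup.2 ⟨x, hV x⟩)).2 hS

end Groth.Agent.JacTheta
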