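import Groth.Agent.JacTheta.RatPts
import Groth.Agent.JacTheta.Effective
import Groth.Agent.CurveFF.Facts

/-! Rigidity of Abel maps under isomorphisms of curves. -/

set_option autoImplicit false
set_option linter.unusedSectionVars false
set_option linter.style.haveILetI false
set_option linter.overlappingInstances false
set_option backward.isDefEq.respectTransparency false
set_option backward.isDefEq.respectTransparency.types false

universe u

open CategoryTheory CategoryTheory.Limits AlgebraicGeometry MonoidalCategory CartesianMonoidalCategory MonObj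

noncomputable section

namespace Groth.Agent.JacTheta

open scoped H23.PicMul
open Groth.Agent.H23.TrivBasic Groth.Agent.InvX

variable {k : Type u} [Field k] [IsAlgClosed k] {C : Scheme.{u}} [C.Over (Spec (CommRingCat.of k))]
  [IsProper (C ↘ Spec (CommRingCat.of k))] [Smooth (C ↘ Spec (CommRingCat.of k))]
  [GeometricallyConnected (C ↘ Spec (CommRingCat.of k))]

/-- An isomorphism over the field as a morphism in the over category. -/
abbrev isoOver {C' : Scheme.{u}} [C'.Over (Spec (CommRingCat.of k))] (α : C ≅ C')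
    (hα : α.hom ≫ (C' ↘ Spec (CommRingCat.of k)) = (C ↘ Spec (CommRingCat.of k))) :
    Over.mk (C ↘ Spec (CommRingCat.of k)) ⟶ Over.mk (C' ↘ Spec (CommRingCat.of k)) :=
  Over.homMk α.hom hα

section Classes

variable [IsIntegral C] (hdim : topologicalKrullDim C = 1)

include hdim

/-- Points have one section in positive genus. -/
theorem hh_O (hg : 1 ≤ Curv2.genus k C) (x : Pt k C) : hh k 0 (O hdim x : PicF.Cl C) = 1 := by
  have h1 := hh_le_mul_O hdim x 1
  rw [hh_one_zero hdim, _root_.one_mul] at h1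
  obtain ⟨G, hG, hc⟩ := (O hdim x).exists_rep
  have hd := dgr_O hdim x
  rw [hc, dgr_cl] at hd
  have h2 := CurveFF.h0_le_one_of_deg_one k hdim hg hG hd
  rw [hc, hh_cl] at h1 ⊢
  omega

/-- Distinct rational points have distinct classes in positive genus. -/
theorem O_injective (hg : 1 ≤ Curv2.genus k C) : Function.Injective (O (k := k) (C := C) hdim) := fun x y hxy => by
  by_contra hne
  haveI := CurveCohLib.isNoetherian_of_proper (k := k) (X := C)
  obtain ⟨G, hG, hc⟩ := (O hdim x).exists_rep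
  have hinv : ClSub.IsInverseOf G (ClSub.idealMod x.1.ker) := (PicGrp.cl_eq_cl_iff _ _).1 (by
    rw [H23.PicMul.cl_tensor, ← hc, ← O_inv_val hdim x, Units.mul_inv]; rfl)
  obtain ⟨s, hs⟩ := AVAmple.exists_divisor_section x.1.ker
    ((S8914.result _).1 (x.isInvertible hdim)) hG hinv
  have hy : y.pt ∈ locus s := by
    rw [hs, x.ker_eq]
    intro hmem
    have e : ((CurvePoint.ptIdeal x.pt x.isClosed).support : Set C) = {x.pt} := by
      rw [← x.ker_eq, Scheme.Hom.support_ker]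
      haveI : Subsingleton (Spec (CommRingCat.of k)) := inferInstanceAs (Subsingleton (PrimeSpectrum k))
      have hr : Set.range x.1 = {x.pt} := Set.ext fun q =>
        ⟨fun ⟨b, hb⟩ => by rw [Set.mem_singleton_iff, ← hb, Subsingleton.elim b (IsLocalRing.closedPoint k)],
          fun hq => ⟨_, hq.symm⟩⟩
      rw [hr, x.isClosed.closure_eq]
    rw [← SetLike.mem_coe, e] at hmem
    exact hne (Pt.ext' (Set.mem_singleton_iff.1 hmem)).symm
  let t : Coh.HH C G 0 := (Sheaf.H.equiv₀ (Coh.toAb G) isTerminalTop).symm s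
  have hnot : ¬ GermIn G y.pt t := fun ht => by
    obtain ⟨U, hyU, hU⟩ := mem_locus_iff.1 hy
    obtain ⟨φ⟩ := H23.InvStalk.exists_stalk_equiv hG y.pt
    obtain ⟨a, ha⟩ := (hU.germ_bijective hyU).2 (φ.symm 1)
    have h1 : φ.symm 1 ∈ IsLocalRing.maximalIdeal (C.presheaf.stalk y.pt) •
        (⊤ : Submodule (C.presheaf.stalk y.pt) (G.presheaf.stalk y.pt)) := by
      rw [← ha]
      refine Submodule.smul_mem _ a ?_
      unfold GermIn at ht
      rw [show (Sheaf.H.equiv₀ (Coh.toAb G) isTerminalTop t : Γ(G, ⊤)) = s from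
        (Sheaf.H.equiv₀ (Coh.toAb G) isTerminalTop).apply_symm_apply s] at ht
      rwa [show G.presheaf.germ U y.pt hyU (AModX.res G le_top s) = G.presheaf.germ ⊤ y.pt trivial s from
        G.presheaf.germ_res_apply (homOfLE le_top) y.pt hyU s]
    have h2 : φ (φ.symm 1) ∈ IsLocalRing.maximalIdeal (C.presheaf.stalk y.pt) := by
      refine Submodule.smul_induction_on (p := fun v => φ v ∈ IsLocalRing.maximalIdeal _) h1
        (fun b hb m _ => ?_) fun b c hb hc => ?_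
      · rw [map_smul, smul_eq_mul]
        exact Ideal.mul_mem_right _ _ hb
      · rw [map_add]
        exact add_mem hb hc
    rw [φ.apply_symm_apply] at h2
    exact (IsLocalRing.maximalIdeal.isMaximal _).ne_top ((Ideal.eq_top_iff_one _).2 h2)
  have h3 : Module.finrank k (Coh.HH C ((DCoh.tensorBi.obj G).obj (CurvePoint.ptMod y.pt y.isClosed)) 0) + 1 =
      Module.finrank k (Coh.HH C G 0) := (twist_module hdim y hG).2.2.1 ⟨t, hnot⟩
  have h4 : hh k 0 ((O hdim x * (O hdim y)⁻¹ : LB C) : PicF.Cl C) =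
      Module.finrank k (Coh.HH C ((DCoh.tensorBi.obj G).obj (CurvePoint.ptMod y.pt y.isClosed)) 0) := by
    rw [Units.val_mul, O_inv_val, hc, ← H23.PicMul.cl_tensor, hh_cl, y.ker_eq]
    rfl
  rw [hxy, mul_inv_cancel, hh_one_zero hdim] at h4
  have h5 := hh_O hdim hg x
  rw [hc, hh_cl] at h5
  omega

/-- A family of points translated by a constant class is constant. -/
theorem class_const_eq_one (hg : 2 ≤ Curv2.genus k C) (K : LB C) (hK : dgr k (K : PicF.Cl C) = 0)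
    (h : ∀ x : Pt k C, ∃ y : Pt k C, K * O hdim x = O hdim y) : K = 1 := by
  refine eq_one_of_dgr_zero hdim K hK ((forall_hh_pos_iff hdim 1 K (by rw [hK]; omega)).1 fun x => ?_)
  obtain ⟨y, hy⟩ := h (x 0)
  rw [show Dv hdim x = O hdim (x 0) from Fin.prod_univ_one _, hy, hh_O hdim (by omega)]
  norm_num

/-- Two families of points with constant sum give a pencil of degree two. -/
theorem exists_pencil (hg : 1 ≤ Curv2.genus k C) (d : LB C) (hd : dgr k (d : PicF.Cl C) = 2)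
    (h : ∀ x : Pt k C, ∃ y : Pt k C, d = O hdim x * O hdim y) :
    ∃ L : C.Modules, PicF.IsInvertible L ∧ Curv2.deg k C L 1 = 2 ∧ Module.finrank k (Coh.HH C L 0) = 2 := by
  obtain ⟨L, hL, hc⟩ := d.exists_rep
  obtain ⟨x₀, hx₀⟩ := exists_pt (k := k) hdim ⊤ ⟨genericPoint C, trivial⟩
  obtain ⟨y₀, hy₀⟩ := h x₀
  have hpos : 0 < hh k 0 (d : PicF.Cl C) := by
    have := hh_le_mul_O hdim y₀ (O hdim x₀)
    rw [hh_O hdim hg, ← hy₀] at this
    omega
  obtain ⟨B, -, hBc, hBne, hB⟩ := exists_base_locus hdim d hpos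
  obtain ⟨x, hx⟩ := exists_pt (k := k) hdim ⟨Bᶜ, hBc.isOpen_compl⟩ hBne
  obtain ⟨y, hy⟩ := h x
  have h2 := (hB x).1 hx
  rw [show d * (O hdim x)⁻¹ = O hdim y by rw [hy, mul_comm, inv_mul_cancel_left], hh_O hdim hg] at h2
  refine ⟨L, hL, ?_, ?_⟩
  · rwa [hc, dgr_cl] at hd
  · rw [hc, hh_cl] at h2
    omega

end Classes

section Abel

variable (hdim : topologicalKrullDim C = 1) {σ : Spec (CommRingCat.of k) ⟶ C}
  (hσ : σ ≫ (C ↘ Spec (CommRingCat.of k)) = 𝟙 _)
  {C' : Scheme.{u}} [C'.Over (Spec (CommRingCat.of k))]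
  {J J' : Over (Spec (CommRingCat.of k))} [GrpObj J] [GrpObj J'] [IsCommMonObj J] [IsCommMonObj J']
  {ψ : (ModFun.PicDeg (C ↘ Spec (CommRingCat.of k)) 0).Hom ⊤ J}
  {j : Over.mk (C ↘ Spec (CommRingCat.of k)) ⟶ J}
  {j' : Over.mk (C' ↘ Spec (CommRingCat.of k)) ⟶ J'}
  (β : J ≅ J') [IsMonHom β.hom]
  {α : C ≅ C'} {hα : α.hom ≫ (C' ↘ Spec (CommRingCat.of k)) = (C ↘ Spec (CommRingCat.of k))}
  {c : 𝟙_ (Over (Spec (CommRingCat.of k))) ⟶ J'} {s : ℤ}

/-- An Abel map relation on rational points. -/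
theorem rel_pt (h : Over.homMk α.hom hα ≫ j' = (j ≫ β.hom) ^ s * (toUnit (Over.mk (C ↘ Spec (CommRingCat.of k))) ≫ c))
    (x : Pt k C) :
    ptOver x ≫ isoOver α hα ≫ j' = (((ptOver x ≫ j) ^ s) ≫ β.hom) * c := by
  rw [show isoOver α hα ≫ j' = _ from h, MonObj.comp_mul, GrpObj.comp_zpow, GrpObj.zpow_comp, Category.assoc]
  congr 1
  rw [← Category.assoc, toUnit_unique (ptOver x ≫ toUnit _) (𝟙 _), Category.id_comp]

include hdim hσ

/-- The comparison of two identifications of curves through the same homomorphism. -/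
theorem exists_classes {α₂ : C ≅ C'} {hα₂ : α₂.hom ≫ (C' ↘ Spec (CommRingCat.of k)) = (C ↘ Spec (CommRingCat.of k))}
    {c₂ : 𝟙_ (Over (Spec (CommRingCat.of k))) ⟶ J'} {s₂ : ℤ}
    [IsIntegral C] (hJ : Jac.IsJacobian (C ↘ Spec (CommRingCat.of k)) ⊤ J ψ)
    (hj : Jac.IsAbelJacobiAt (C ↘ Spec (CommRingCat.of k)) σ ψ j)
    (h₁ : Over.homMk α.hom hα ≫ j' = (j ≫ β.hom) ^ s * (toUnit (Over.mk (C ↘ Spec (CommRingCat.of k))) ≫ c))
    (h₂ : Over.homMk α₂.hom hα₂ ≫ j' = (j ≫ β.hom) ^ s₂ * (toUnit (Over.mk (C ↘ Spec (CommRingCat.of k))) ≫ c₂)) :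
    ∃ K : LB C, ∀ x : Pt k C, ∃ y : Pt k C, y.1 = x.1 ≫ α₂.hom ≫ α.inv ∧
      (O hdim y * (O hdim ⟨σ, hσ⟩)⁻¹) ^ s = (O hdim x * (O hdim ⟨σ, hσ⟩)⁻¹) ^ s₂ * K := by
  have hy : ∀ x : Pt k C, (x.1 ≫ α₂.hom ≫ α.inv) ≫ (C ↘ Spec (CommRingCat.of k)) = 𝟙 _ := fun x => by
    have e : α.inv ≫ (C ↘ Spec (CommRingCat.of k)) = (C' ↘ Spec (CommRingCat.of k)) := by
      rw [Iso.inv_comp_eq, hα]
    simp [Category.assoc, e, hα₂, x.2]
  obtain ⟨K, hK, hKc⟩ := ptJ_surj hJ ((c₂ * c⁻¹) ≫ β.inv)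
  refine ⟨K, fun x => ⟨⟨_, hy x⟩, rfl, ?_⟩⟩
  have hd : ∀ z : Pt k C, dgr k ((O hdim z * (O hdim ⟨σ, hσ⟩)⁻¹ : LB C) : PicF.Cl C) = 0 := fun z => by
    rw [dgr_mul hdim, dgr_inv hdim, dgr_O hdim, dgr_O hdim]
    ring
  have hz : ∀ (z : Pt k C) (n : ℤ),
      ptJ ψ ((O hdim z * (O hdim ⟨σ, hσ⟩)⁻¹) ^ n) = (ptOver z ≫ j) ^ n := fun z n => by
    rw [abel_pt hdim hσ hj z]
    induction n using Int.induction_on with
    | zero => rw [zpow_zero, zpow_zero, ptJ_one hdim hJ]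
    | succ i ih => rw [zpow_add_one, zpow_add_one, ptJ_mul hdim hJ (by rw [dgr_zpow hdim, hd, mul_zero]) (hd z), ih]
    | pred i ih =>
      rw [zpow_sub_one, zpow_sub_one, ptJ_mul hdim hJ (by rw [dgr_zpow hdim, hd, mul_zero])
        (by rw [dgr_inv hdim, hd, neg_zero]), ptJ_inv hdim hJ (hd z), ih]
  have hdn : ∀ (z : Pt k C) (n : ℤ),
      dgr k (((O hdim z * (O hdim ⟨σ, hσ⟩)⁻¹) ^ n : LB C) : PicF.Cl C) = 0 := fun z n => by
    rw [dgr_zpow hdim, hd, mul_zero]
  refine ptJ_inj hJ (hdn _ _) (by rw [dgr_mul hdim, hdn, hK, add_zero]) ?_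
  rw [ptJ_mul hdim hJ (hdn _ _) hK, hz, hz, hKc, ← cancel_mono β.hom, MonObj.mul_comp, Category.assoc,
    Iso.inv_hom_id, Category.comp_id]
  have e : ptOver (⟨_, hy x⟩ : Pt k C) ≫ isoOver α hα = ptOver x ≫ isoOver α₂ hα₂ :=
    Over.OverMorphism.ext (by
      show (x.1 ≫ α₂.hom ≫ α.inv) ≫ α.hom = x.1 ≫ α₂.hom
      simp)
  have e1 := rel_pt β h₁ (⟨_, hy x⟩ : Pt k C)
  rw [← Category.assoc, e, Category.assoc, rel_pt β h₂ x] at e1
  rw [← _root_.mul_assoc, eq_mul_inv_iff_mul_eq]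
  exact e1.symm

/-- When the comparison is the identity on points the identifications agree. -/
theorem iso_eq_of_pts [IsProper (C' ↘ Spec (CommRingCat.of k))] {α₂ : C ≅ C'}
    (hα₂ : α₂.hom ≫ (C' ↘ Spec (CommRingCat.of k)) = (C ↘ Spec (CommRingCat.of k)))
    (hα' : α.hom ≫ (C' ↘ Spec (CommRingCat.of k)) = (C ↘ Spec (CommRingCat.of k)))
    (h : ∀ x : Pt k C, x.1 ≫ α₂.hom ≫ α.inv = x.1) : α = α₂ := by
  haveI : IsReduced (Over.mk (C ↘ Spec (CommRingCat.of k))).left :=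
    GrpSchLib.isReduced_of_smooth_field (C ↘ Spec (CommRingCat.of k))
  haveI : LocallyOfFiniteType (Over.mk (C ↘ Spec (CommRingCat.of k))).hom := ‹IsProper (C ↘ _)›.toLocallyOfFiniteType
  haveI : IsSeparated (Over.mk (C' ↘ Spec (CommRingCat.of k))).hom := ‹IsProper (C' ↘ _)›.toIsSeparated
  haveI : LocallyOfFiniteType (Over.mk (C' ↘ Spec (CommRingCat.of k))).hom :=
    ‹IsProper (C' ↘ _)›.toLocallyOfFiniteType
  have e : (Over.homMk α.hom hα' : Over.mk (C ↘ Spec (CommRingCat.of k)) ⟶ Over.mk (C' ↘ Spec (CommRingCat.of k))) =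
      Over.homMk α₂.hom hα₂ := AVFac.ext_pts fun x => Over.OverMorphism.ext (by
    show x.left ≫ α.hom = x.left ≫ α₂.hom
    have := congrArg (· ≫ α.hom) (h ⟨x.left, Over.w x⟩)
    simpa using this.symm)
  exact Iso.ext (congrArg (fun f => f.left) e)

end Abel

end Groth.Agent.JacTheta
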