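import Groth.Agent.JacTheta.Rigid
import Groth.Agent.SurfInt.Ideal
import Groth.Agent.ModPairLib.Quot

/-! A section of `O(z₁ + ⋯ + z_r)` vanishing only at the points, and uniqueness of divisors with one section. -/

set_option autoImplicit false
set_option linter.unusedSectionVars false
set_option linter.style.haveILetI false
set_option linter.overlappingInstances false
set_option backward.isDefEq.respectTransparency false
set_option backward.isDefEq.respectTransparency.types false

universe u

open CategoryTheory CategoryTheory.Limits AlgebraicGeometry TopologicalSpace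

noncomputable section

namespace Groth.Agent.JacTheta

open scoped H23.PicMul
open Groth.Agent.H23.TrivBasic Groth.Agent.InvX

variable {k : Type u} [Field k] {C : Scheme.{u}} [C.Over (Spec (CommRingCat.of k))]
  [IsIntegral C] [IsProper (C ↘ Spec (CommRingCat.of k))] [Smooth (C ↘ Spec (CommRingCat.of k))]
  (hdim : topologicalKrullDim C = 1)

include hdim

/-- A point outside the support of a divisor is not a base point. -/
theorem not_germIn_of_mem_locus {G : C.Modules} (hG : PicF.IsInvertible G) (y : C) {s : Γ(G, ⊤)}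
    (hy : y ∈ locus s) : ¬ GermIn G y ((Sheaf.H.equiv₀ (Coh.toAb G) isTerminalTop).symm s) := fun ht => by
  obtain ⟨U, hyU, hU⟩ := mem_locus_iff.1 hy
  obtain ⟨φ⟩ := H23.InvStalk.exists_stalk_equiv hG y
  obtain ⟨a, ha⟩ := (hU.germ_bijective hyU).2 (φ.symm 1)
  have h1 : φ.symm 1 ∈ IsLocalRing.maximalIdeal (C.presheaf.stalk y) •
      (⊤ : Submodule (C.presheaf.stalk y) (G.presheaf.stalk y)) := by
    rw [← ha]
    refine Submodule.smul_mem _ a ?_
    unfold GermIn at ht
    rw [show (Sheaf.H.equiv₀ (Coh.toAb G) isTerminalTop ((Sheaf.H.equiv₀ (Coh.toAb G) isTerminalTop).symm s) :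
      Γ(G, ⊤)) = s from (Sheaf.H.equiv₀ (Coh.toAb G) isTerminalTop).apply_symm_apply s] at ht
    rwa [show G.presheaf.germ U y hyU (AModX.res G le_top s) = G.presheaf.germ ⊤ y trivial s from
      G.presheaf.germ_res_apply (homOfLE le_top) y hyU s]
  have h2 : φ (φ.symm 1) ∈ IsLocalRing.maximalIdeal (C.presheaf.stalk y) := by
    refine Submodule.smul_induction_on (p := fun v => φ v ∈ IsLocalRing.maximalIdeal _) h1
      (fun b hb m _ => ?_) fun b c hb hc => ?_
    · rw [map_smul, smul_eq_mul]
      exact Ideal.mul_mem_right _ _ hb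
    · rw [map_add]
      exact add_mem hb hc
  rw [φ.apply_symm_apply] at h2
  exact (IsLocalRing.maximalIdeal.isMaximal _).ne_top ((Ideal.eq_top_iff_one _).2 h2)

/-- The effective Cartier divisor of a family of points. -/
theorem exists_ideal : ∀ {r : ℕ} (z : Fin (r + 1) → Pt k C), ∃ I : C.IdealSheafData, BlowUp.IsEffCartierIdeal I ∧
    PicF.cl (ClSub.idealMod I) = ((Dv hdim z)⁻¹ : LB C) ∧ ∀ p : C, p ∈ I.support → ∃ i, (z i).pt = p
  | 0, z => by
    refine ⟨(z 0).1.ker, (S8914.result _).1 ((z 0).isInvertible hdim), ?_, fun p hp => ⟨0, ?_⟩⟩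
    · rw [show Dv hdim z = O hdim (z 0) from Fin.prod_univ_one _, O_inv_val]
    · rw [← SetLike.mem_coe, Scheme.Hom.support_ker] at hp
      haveI : Subsingleton (Spec (CommRingCat.of k)) := inferInstanceAs (Subsingleton (PrimeSpectrum k))
      have hr : Set.range (z 0).1 ⊆ {(z 0).pt} := by
        rintro _ ⟨b, rfl⟩
        rw [Set.mem_singleton_iff, Subsingleton.elim b (IsLocalRing.closedPoint k)]
      exact (closure_minimal hr (z 0).isClosed hp).symm
  | r + 1, z => by
    obtain ⟨I, hI, hc, hs⟩ := exists_ideal (fun i : Fin (r + 1) => z i.succ)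
    have hJ := (S8914.result _).1 ((z 0).isInvertible hdim)
    refine ⟨(z 0).1.ker * I, ModPairLib.isEffCartier_mul hJ hI, ?_, fun p hp => ?_⟩
    · rw [(PicGrp.cl_eq_cl_iff _ _).2 (SurfInt.nonempty_idealMod_mul hJ hI), H23.PicMul.cl_tensor, hc,
        show Dv hdim z = O hdim (z 0) * Dv hdim (fun i => z i.succ) from Fin.prod_univ_succ _, mul_inv,
        Units.val_mul, O_inv_val]
    · rw [Scheme.IdealSheafData.support_mul, ← SetLike.mem_coe, Closeds.coe_sup] at hp
      rcases hp with hp | hp
      · rw [Scheme.Hom.support_ker] at hp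
        haveI : Subsingleton (Spec (CommRingCat.of k)) := inferInstanceAs (Subsingleton (PrimeSpectrum k))
        have hr : Set.range (z 0).1 ⊆ {(z 0).pt} := by
          rintro _ ⟨b, rfl⟩
          rw [Set.mem_singleton_iff, Subsingleton.elim b (IsLocalRing.closedPoint k)]
        exact ⟨0, (closure_minimal hr (z 0).isClosed hp).symm⟩
      · obtain ⟨i, hi⟩ := hs p hp
        exact ⟨i.succ, hi⟩

/-- A point different from all the points of a divisor drops its sections. -/
theorem hh_drop_of_notMem [GeometricallyConnected (C ↘ Spec (CommRingCat.of k))] {r : ℕ} (z : Fin r → Pt k C)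
    (p : Pt k C) (hp : ∀ i, z i ≠ p) :
    hh k 0 ((Dv hdim z * (O hdim p)⁻¹ : LB C) : PicF.Cl C) + 1 = hh k 0 (Dv hdim z : PicF.Cl C) := by
  cases r with
  | zero =>
    rw [Dv_zero, one_mul, hh_one_zero hdim,
      hh_eq_zero_of_dgr_neg hdim _ (by rw [dgr_inv hdim, dgr_O hdim]; norm_num)]
  | succ r =>
    obtain ⟨I, hI, hc, hs⟩ := exists_ideal hdim z
    obtain ⟨G, hG, hcG⟩ := (Dv hdim z).exists_rep
    have hinv : ClSub.IsInverseOf G (ClSub.idealMod I) := (PicGrp.cl_eq_cl_iff _ _).1 (by
      rw [H23.PicMul.cl_tensor, hc, ← hcG, Units.mul_inv]; rfl)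
    obtain ⟨s, hloc⟩ := AVAmple.exists_divisor_section I hI hG hinv
    have hmem : p.pt ∈ locus s := (hloc _).2 fun h => by
      obtain ⟨i, hi⟩ := hs _ h
      exact hp i (Pt.ext' hi)
    rw [Units.val_mul, O_inv_val, hcG, ← H23.PicMul.cl_tensor, hh_cl, hh_cl, p.ker_eq]
    exact (twist_module hdim p hG).2.2.1 ⟨_, not_germIn_of_mem_locus hdim hG p.pt hmem⟩

end Groth.Agent.JacTheta
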